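import Cfsg.Agent.Lib.Unitary.Moves

/-!
The centre of `SU_n(q)` and the order of `PSU_n(q)` (helper10).
-/

set_option autoImplicit false

namespace Cfsg.Agent.Unitary

open Matrix

variable {F : Type*} [Field F] [Fintype F] {n q : ℕ} (hF : Fintype.card F = q ^ 2)

include hF

theorem fix_isotropic_lines_of_mem_center {g : SU n F q} (hg : g ∈ Subgroup.center (SU n F q))
    {u : Fin n → F} (hu : herm q u u = 0) : ∃ a : F, g • u = a • u := by
  by_cases hu0 : u = 0
  · exact ⟨1, by simp [hu0]⟩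
  obtain ⟨c, hc0, hc⟩ := exists_trace_zero_ne_zero hF
  obtain ⟨v, -, -, huv⟩ :=
    exists_partner hF (S := ∅) (u := u) (by simp [supp_empty]) hu hu0
  have h := conj_tv hF g hu hc
  rw [← Subgroup.mem_center_iff.1 hg, mul_inv_cancel_right] at h
  have h2 := congrArg (fun k : SU n F q => k • v) h
  simp only [tv_smul, add_right_inj, herm_one_swap hF huv, mul_one] at h2
  have hne : c * herm q v (g • u) ≠ 0 := fun e => by
    rw [e, zero_smul] at h2
    exact smul_ne_zero hc0 hu0 h2
  refine ⟨(c * herm q v (g • u))⁻¹ * c, ?_⟩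
  rw [mul_smul, h2, inv_smul_smul₀ hne]

theorem scalar_of_fix_isotropic_lines (hn : 2 ≤ n) {g : SU n F q}
    (h : ∀ u : Fin n → F, herm q u u = 0 → ∃ a : F, g • u = a • u) :
    ∃ r : F, r ^ n = 1 ∧ r ^ (q + 1) = 1 ∧ ∀ x : Fin n → F, g • x = r • x := by
  classical
  have key : ∀ i j : Fin n, i ≠ j → ∃ r : F,
      g • (eI i : Fin n → F) = r • eI i ∧ g • (eI j : Fin n → F) = r • eI j := by
    intro i j hij
    set X := g • (eI i : Fin n → F) with hX
    set Y := g • (eI j : Fin n → F) with hY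
    have hone : (-1 : F) ^ q = -1 := by rw [neg_pow_q hF, one_pow]
    have hc : Nat.card {a : F // a ^ (q + 1) = -1} = q + 1 :=
      card_norm_eq hF hone (neg_ne_zero.2 one_ne_zero)
    have h3 : 2 < (Finset.univ : Finset {a : F // a ^ (q + 1) = -1}).card := by
      rw [Finset.card_univ, ← Nat.card_eq_fintype_card, hc]
      have := two_le_q hF
      omega
    obtain ⟨⟨a, ha⟩, ⟨b, hb⟩, ⟨c, hc⟩, -, -, -, hab, hac, hbc⟩ := Finset.two_lt_card_iff.1 h3
    have hab' : a - b ≠ 0 := sub_ne_zero.2 fun e => hab (Subtype.ext e)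
    have hac' : a - c ≠ 0 := sub_ne_zero.2 fun e => hac (Subtype.ext e)
    have hbc' : b - c ≠ 0 := sub_ne_zero.2 fun e => hbc (Subtype.ext e)
    have hline : ∀ a : F, a ^ (q + 1) = -1 → ∃ l : F, X + a • Y = l • (eI i + a • eI j) := by
      intro a ha
      obtain ⟨l, hl⟩ := h (eI i + a • eI j) (by
        simp only [herm_add_left, herm_add_right hF, herm_smul_left, herm_smul_right hF,
          herm_eI_eI hF, if_true, if_neg hij, if_neg hij.symm, mul_zero, mul_one, add_zero,
          zero_add]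
        rw [pow_succ] at ha
        linear_combination ha)
      exact ⟨l, by rw [hX, hY, ← smul_comm g, ← smul_add, hl]⟩
    have hk0 : ∀ k, k ≠ i → k ≠ j → X k = 0 ∧ Y k = 0 := by
      intro k hki hkj
      obtain ⟨l, hl⟩ := hline a ha
      obtain ⟨l', hl'⟩ := hline b hb
      have e1 := congrFun hl k
      have e2 := congrFun hl' k
      simp [eI, hki, hkj] at e1 e2
      have hy : Y k = 0 := (mul_eq_zero.1 (show (a - b) * Y k = 0 by
        linear_combination e1 - e2)).resolve_left hab'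
      exact ⟨by simpa [hy] using e1, hy⟩
    have hquad : ∀ a : F, a ^ (q + 1) = -1 → X j + a * (Y j - X i) - a ^ 2 * Y i = 0 := by
      intro a ha
      obtain ⟨l, hl⟩ := hline a ha
      have e1 := congrFun hl i
      have e2 := congrFun hl j
      simp [eI, hij, hij.symm] at e1 e2
      linear_combination e2 - a * e1
    have qa := hquad a ha
    have qb := hquad b hb
    have qc := hquad c hc
    have hYi : Y i = 0 := by
      refine (mul_eq_zero.1 (show ((a - b) * ((a - c) * (b - c))) * Y i = 0 by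
        linear_combination (c - b) * qa + (a - c) * qb + (b - a) * qc)).resolve_left ?_
      exact mul_ne_zero hab' (mul_ne_zero hac' hbc')
    have hYX : Y j - X i = 0 := (mul_eq_zero.1 (show (a - b) * (Y j - X i) = 0 by
      linear_combination qa - qb + (a ^ 2 - b ^ 2) * hYi)).resolve_left hab'
    have hXj : X j = 0 := by linear_combination qa - a * hYX + a ^ 2 * hYi
    refine ⟨X i, funext fun k => ?_, funext fun k => ?_⟩
    · show X k = _
      by_cases hki : k = i
      · simp [hki, eI]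
      by_cases hkj : k = j
      · subst hkj; simp [eI, hki, hXj]
      · simp [eI, hki, (hk0 k hki hkj).1]
    · show Y k = _
      by_cases hkj : k = j
      · subst hkj; simp [eI, sub_eq_zero.1 hYX]
      by_cases hki : k = i
      · subst hki; simp [eI, hkj, hYi]
      · simp [eI, hkj, (hk0 k hki hkj).2]
  let i₀ : Fin n := ⟨0, by omega⟩
  let j₀ : Fin n := ⟨1, by omega⟩
  obtain ⟨r, hr0, -⟩ := key i₀ j₀ (by simp [i₀, j₀])
  have hall : ∀ i, g • (eI i : Fin n → F) = r • eI i := by
    intro i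
    by_cases hi : i = i₀
    · exact hi ▸ hr0
    obtain ⟨r', h1, h2⟩ := key i₀ i (Ne.symm hi)
    have e : r' = r := by
      have := congrFun (h1.symm.trans hr0) i₀
      simpa [eI] using this
    exact e ▸ h2
  have hall' : ∀ x : Fin n → F, g • x = r • x := fun x => by
    rw [eq_sum_eI x, Finset.smul_sum, Finset.smul_sum]
    exact Finset.sum_congr rfl fun i _ => by rw [smul_comm, hall i, smul_comm]
  have hM : ((g : Matrix.SpecialLinearGroup (Fin n) F) : Matrix (Fin n) (Fin n) F) =
      Matrix.diagonal (fun _ => r) := Matrix.ext_of_mulVec_single fun i => by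
    refine (hall' (Pi.single i 1)).trans ?_
    funext k
    simp [Matrix.mulVec_diagonal]
  refine ⟨r, ?_, ?_, hall'⟩
  · have hdet := g.1.2
    rw [hM, Matrix.det_diagonal] at hdet
    simpa using hdet
  · have := herm_smul_SU g (eI i₀ : Fin n → F) (eI i₀)
    rw [hall', herm_smul_left, herm_smul_right hF, herm_eI_eI hF, if_pos rfl, mul_one] at this
    rw [pow_succ']; exact this

theorem mem_center_iff (hn : 2 ≤ n) {g : SU n F q} :
    g ∈ Subgroup.center (SU n F q) ↔ ∃ r : F, ∀ x : Fin n → F, g • x = r • x := by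
  constructor
  · intro hg
    obtain ⟨r, -, -, hr⟩ := scalar_of_fix_isotropic_lines hF hn fun u hu =>
      fix_isotropic_lines_of_mem_center hF hg hu
    exact ⟨r, hr⟩
  · rintro ⟨r, hr⟩
    exact Subgroup.mem_center_iff.2 fun k => eq_of_smul_eq_SU fun x => by
      rw [mul_smul, mul_smul, hr, hr, smul_comm k]

theorem card_center (hn : 2 ≤ n) :
    Nat.card (Subgroup.center (SU n F q)) = Nat.gcd n (q + 1) := by
  set d := Nat.gcd n (q + 1) with hd
  have hscalar : ∀ r : F, r ^ n = 1 → r ^ (q + 1) = 1 →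
      ∃ g : SU n F q, ∀ x : Fin n → F, g • x = r • x := by
    intro r hn' hq
    have hdet : (Matrix.diagonal fun _ : Fin n => r).det = 1 := by simp [hn']
    have hact : ∀ x : Fin n → F, Matrix.diagonal (fun _ : Fin n => r) *ᵥ x = r • x := fun x => by
      funext k; simp [Matrix.mulVec_diagonal]
    refine ⟨⟨⟨_, hdet⟩, fun x y => ?_⟩, hact⟩
    show herm q (Matrix.diagonal (fun _ : Fin n => r) *ᵥ x) (Matrix.diagonal (fun _ => r) *ᵥ y) = _
    rw [hact, hact, herm_smul_left, herm_smul_right hF, ← mul_assoc, ← pow_succ', hq, one_mul]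
  have hker : Nat.card (powMonoidHom d : Fˣ →* Fˣ).ker = d := by
    rw [IsCyclic.card_powMonoidHom_ker, Nat.card_units, Nat.card_eq_fintype_card, hF]
    exact Nat.gcd_eq_right ((Nat.gcd_dvd_right n (q + 1)).trans
      ⟨q - 1, by rw [← Nat.sq_sub_sq, one_pow]⟩)
  choose f hf using hscalar
  refine Eq.trans (Nat.card_congr (Equiv.ofBijective ?_ ⟨?_, ?_⟩)).symm hker
  · intro a
    have h1 : ((a.1 : Fˣ) : F) ^ d = 1 := congrArg Units.val a.2
    have hn' : ((a.1 : Fˣ) : F) ^ n = 1 := by
      obtain ⟨k, hk⟩ := Nat.gcd_dvd_left n (q + 1)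
      rw [hk, pow_mul, h1, one_pow]
    have hq : ((a.1 : Fˣ) : F) ^ (q + 1) = 1 := by
      obtain ⟨k, hk⟩ := Nat.gcd_dvd_right n (q + 1)
      rw [hk, pow_mul, h1, one_pow]
    exact ⟨f _ hn' hq, (mem_center_iff hF hn).2 ⟨_, hf _ hn' hq⟩⟩
  · intro a b hab
    refine Subtype.ext (Units.ext ?_)
    have h := congrArg (fun z : Subgroup.center (SU n F q) =>
      (z : SU n F q) • (eI ⟨0, by omega⟩ : Fin n → F)) hab
    simp only [hf] at h
    simpa [eI] using congrFun h ⟨0, by omega⟩
  · rintro ⟨g, hg⟩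
    obtain ⟨r, hrn, hrq, hr⟩ := scalar_of_fix_isotropic_lines hF hn fun u hu =>
      fix_isotropic_lines_of_mem_center hF hg hu
    have hr0 : r ≠ 0 := fun e => by simp [e] at hrq
    refine ⟨⟨Units.mk0 r hr0, Units.ext ?_⟩, Subtype.ext (eq_of_smul_eq_SU fun x => ?_)⟩
    · show r ^ d = 1
      exact pow_gcd_eq_one.2 ⟨hrn, hrq⟩
    · exact (hf r _ _ x).trans (hr x).symm

/-- `gcd(n, q+1) (q+1) |PSU_n(q)| = |GU_n(q)|`. -/
theorem card_PSU (hn : 2 ≤ n) :
    Nat.gcd n (q + 1) * ((q + 1) * Nat.card (SU n F q ⧸ Subgroup.center (SU n F q))) =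
      q ^ (n * (n - 1) / 2) *
        ∏ i ∈ Finset.range n, (if Even i then q ^ (i + 1) + 1 else q ^ (i + 1) - 1) := by
  rw [← card_GU hF n, ← card_SU_mul hF (by omega : 1 ≤ n),
    Subgroup.card_eq_card_quotient_mul_card_subgroup (Subgroup.center (SU n F q)),
    card_center hF hn]
  ring

end Cfsg.Agent.Unitary
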