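import Cfsg.Agent.Lib.Unitary.Generation
import Cfsg.Agent.Lib.Unitary.Center

/-!
Perfectness of `SU_n(q)` and simplicity of `PSU_n(q)` for `n ≥ 3`, `(n, q) ≠ (3, 2)` (helper10).
-/

set_option autoImplicit false

namespace Cfsg.Agent.Unitary

open Matrix MulAction
open scoped LinearAlgebra.Projectivization Pointwise commutatorElement

variable {F : Type*} [Field F] [Fintype F] {n q : ℕ} (hF : Fintype.card F = q ^ 2)

section Perfect

include hF

/-- Every transvection is a commutator once `n ≥ 3`. -/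
theorem tv_mem_commutatorSet (hn : 3 ≤ n) {u : Fin n → F} {c : F} (hu : herm q u u = 0)
    (hc : c + c ^ q = 0) : tv hF hu hc ∈ commutatorSet (SU n F q) := by
  by_cases hu0 : u = 0
  · refine ⟨1, 1, eq_of_smul_eq_SU fun x => ?_⟩
    rw [tv_smul, hu0]
    simp
  obtain ⟨v, -, hv, huv⟩ :=
    exists_partner hF (S := ∅) (u := u) (by simp [supp_empty]) hu hu0
  obtain ⟨w, -, hwu, -, hww⟩ := exists_orth_norm hF (S := (∅ : Finset (Fin n)))
    (by simpa using hn) (u := u) (v := v) (by simp [supp_empty]) (by simp [supp_empty])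
    hu hv huv (t := (1 : F)) (one_pow q)
  obtain ⟨γ, hγ⟩ := exists_sub_pow_eq hF hc
  have huw : herm q u w = 0 := (herm_eq_zero_comm hF).1 hwu
  have h1u : herm q (γ • w) u = 0 := by rw [herm_smul_left, hwu, mul_zero]
  have hu1 : herm q u (γ • w) = 0 := by rw [herm_smul_right hF, huw, mul_zero]
  obtain ⟨b1, hb1⟩ := exists_trace_eq hF (t := -herm q (γ • w) (γ • w))
    (by rw [neg_pow_q hF, herm_self_fixed hF])
  obtain ⟨b2, hb2⟩ := exists_trace_eq hF (t := -herm q w w)
    (by rw [neg_pow_q hF, herm_self_fixed hF])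
  have key : Qel hF hu h1u hb1 * Qel hF hu hwu hb2 =
      tv hF hu hc * (Qel hF hu hwu hb2 * Qel hF hu h1u hb1) := by
    refine eq_of_smul_eq_SU fun x => ?_
    simp only [mul_smul, Qel_smul, tv_smul, herm_add_left, herm_sub_left, herm_smul_left,
      herm_smul_right hF, hu, hwu, h1u, huw, hu1, hww, mul_one, mul_zero]
    rw [← hγ]
    match_scalars <;> ring
  exact ⟨Qel hF hu h1u hb1, Qel hF hu hwu hb2, by
    rw [commutatorElement_def, mul_assoc _ (_)⁻¹, ← _root_.mul_inv_rev, key, mul_assoc,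
      mul_inv_cancel, mul_one]⟩

theorem commutator_SU_eq_top (hn : 3 ≤ n) (h32 : ¬ (n = 3 ∧ q = 2)) :
    commutator (SU n F q) = ⊤ := by
  rw [eq_top_iff, ← tvGroup_empty hF h32, tvGroup, Subgroup.closure_le]
  rintro _ ⟨u, c, hu, hc, -, rfl⟩
  obtain ⟨a, b, hab⟩ := tv_mem_commutatorSet hF hn hu hc
  rw [← hab, commutator_def]
  exact Subgroup.commutator_mem_commutator (Subgroup.mem_top _) (Subgroup.mem_top _)

end Perfect

/-! ### Isotropic points -/

/-- The isotropic points of the unitary space. -/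
def IsoPt (_hF : Fintype.card F = q ^ 2) (n : ℕ) : Type _ :=
  {p : ℙ F (Fin n → F) // herm q p.rep p.rep = 0}

theorem smul_mk_SU (g : SU n F q) {v : Fin n → F} (hv : v ≠ 0) :
    g • Projectivization.mk F v hv =
      Projectivization.mk F (g • v) ((smul_ne_zero_iff_ne g).2 hv) := rfl

include hF in
theorem herm_rep_smul (g : SU n F q) {p : ℙ F (Fin n → F)} (hp : herm q p.rep p.rep = 0) :
    herm q (g • p).rep (g • p).rep = 0 := by
  have hne : g • p.rep ≠ 0 := (smul_ne_zero_iff_ne g).2 p.rep_nonzero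
  obtain ⟨a, ha⟩ := (Projectivization.mk_eq_mk_iff' F _ _ (g • p).rep_nonzero hne).1
    (by rw [Projectivization.mk_rep, ← smul_mk_SU g p.rep_nonzero,
      Projectivization.mk_rep])
  rw [← ha, herm_smul_left, herm_smul_right hF, herm_smul_SU, hp, mul_zero, mul_zero]

instance isoPtMulAction : MulAction (SU n F q) (IsoPt hF n) where
  smul g p := ⟨g • p.1, herm_rep_smul hF g p.2⟩
  one_smul p := Subtype.ext (one_smul _ p.1)
  mul_smul g h p := Subtype.ext (mul_smul g h p.1)

theorem coe_smul_pt (g : SU n F q) (p : IsoPt hF n) : (g • p).1 = g • p.1 := rfl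

theorem smul_eq_of_rep {g : SU n F q} {p p' : IsoPt hF n} {a : F}
    (h : g • p.1.rep = a • p'.1.rep) : g • p = p' := by
  refine Subtype.ext ?_
  rw [coe_smul_pt]
  conv_lhs => rw [← p.1.mk_rep, smul_mk_SU]
  conv_rhs => rw [← p'.1.mk_rep]
  exact (Projectivization.mk_eq_mk_iff' F _ _ _ _).2 ⟨a, h.symm⟩

/-- The point of an isotropic vector. -/
theorem exists_pt {w : Fin n → F} (hw : w ≠ 0) (hww : herm q w w = 0) :
    ∃ (p : IsoPt hF n) (a : F), a ≠ 0 ∧ p.1.rep = a • w := by
  set p := Projectivization.mk F w hw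
  obtain ⟨a, ha⟩ := (Projectivization.mk_eq_mk_iff' F _ _ p.rep_nonzero hw).1 p.mk_rep
  have ha0 : a ≠ 0 := fun e => p.rep_nonzero (by rw [← ha, e, zero_smul])
  exact ⟨⟨p, by rw [← ha, herm_smul_left, herm_smul_right hF, hww, mul_zero, mul_zero]⟩,
    a, ha0, ha.symm⟩

theorem ne_smul_of_ne {p p' : IsoPt hF n} (h : p' ≠ p) (a : F) : p'.1.rep ≠ a • p.1.rep :=
  fun e => h <| Subtype.ext <| by
    rw [← p'.1.mk_rep, ← p.1.mk_rep]
    exact (Projectivization.mk_eq_mk_iff' F _ _ _ _).2 ⟨a, e.symm⟩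

/-- Orthogonality of points. -/
def Orth (p p' : IsoPt hF n) : Prop := herm q p.1.rep p'.1.rep = 0

theorem orth_comm {p p' : IsoPt hF n} : Orth hF p p' ↔ Orth hF p' p := herm_eq_zero_comm hF

theorem isPretransitive_points : IsPretransitive (SU n F q) (IsoPt hF n) :=
  ⟨fun p p' => by
    obtain ⟨t, -, a, -, h⟩ := exists_move_point hF (S := ∅) (u := p.1.rep) (u' := p'.1.rep)
      (by simp [supp_empty]) (by simp [supp_empty]) p.2 p'.2 p.1.rep_nonzero p'.1.rep_nonzero
    exact ⟨t, smul_eq_of_rep hF h⟩⟩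

include hF in
theorem exists_nonorth {u u' : Fin n → F} (hu : herm q u u = 0) (hu' : herm q u' u' = 0)
    (h0 : u ≠ 0) (h0' : u' ≠ 0) (h3 : herm q u u' = 0) :
    ∃ z, z ≠ 0 ∧ herm q z z = 0 ∧ herm q u z ≠ 0 ∧ herm q z u' ≠ 0 := by
  suffices ∃ z, herm q z z = 0 ∧ herm q u z ≠ 0 ∧ herm q z u' ≠ 0 by
    obtain ⟨z, h1, h2, h4⟩ := this
    exact ⟨z, fun e => h4 (by rw [e, herm_zero_left]), h1, h2, h4⟩
  obtain ⟨a, -, ha, hua⟩ := exists_partner hF (S := ∅) (u := u) (by simp [supp_empty]) hu h0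
  obtain ⟨b, -, hb, hub'⟩ := exists_partner hF (S := ∅) (u := u') (by simp [supp_empty]) hu' h0'
  by_cases h1 : herm q a u' = 0
  · by_cases h2 : herm q u b = 0
    · obtain ⟨d, hd⟩ := exists_trace_eq hF (t := -(herm q b a + herm q b a ^ q))
        (by rw [neg_pow_q hF, add_pow_q hF, pow_q_pow_q hF, add_comm])
      have h2' : herm q b u = 0 := (herm_eq_zero_comm hF).1 h2
      refine ⟨a + b + d • u, ?_, ?_, ?_⟩
      · simp only [herm_add_left, herm_add_right hF, herm_smul_left, herm_smul_right hF, hu, ha,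
          hb, hua, herm_one_swap hF hua, h2, h2', herm_swap hF b a]
        linear_combination hd
      · simp [herm_add_right hF, herm_smul_right hF, hu, hua, h2]
      · simp [herm_add_left, herm_smul_left, h1, h3, herm_one_swap hF hub']
    · exact ⟨b, hb, h2, by simp [herm_one_swap hF hub']⟩
  · exact ⟨a, ha, by simp [hua], h1⟩

include hF in
theorem exists_SU_of_GU_conj (g : GU n F q) (t : SU n F q) :
    ∃ s : SU n F q, ∀ x : Fin n → F, s • x = g • (t • (g⁻¹ • x)) := by
  have : g * toGU t * g⁻¹ ∈ (toGU : SU n F q →* GU n F q).range := by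
    rw [range_toGU]
    exact Subgroup.Normal.conj_mem inferInstance _ (by rw [← range_toGU]; exact ⟨t, rfl⟩) g
  obtain ⟨s, hs⟩ := this
  exact ⟨s, fun x => by rw [← toGU_smul s x, hs, mul_smul, mul_smul, toGU_smul]⟩

include hF in
/-- The stabiliser of `u` is transitive on points orthogonal to `u`. -/
theorem exists_orth_move (hn : 2 ≤ n) {u x y : Fin n → F} (hu : herm q u u = 0) (hu0 : u ≠ 0)
    (hx : herm q x x = 0) (hux : herm q u x = 0) (hxu : ∀ a : F, x ≠ a • u)
    (hy : herm q y y = 0) (huy : herm q u y = 0) (hyu : ∀ a : F, y ≠ a • u) :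
    ∃ (g : SU n F q) (b : F), g • u = u ∧ g • x = b • y := by
  obtain ⟨v, -, hv, huv⟩ := exists_partner hF (S := ∅) (u := u) (by simp [supp_empty]) hu hu0
  let i : Fin n := ⟨0, by omega⟩
  let j : Fin n := ⟨1, by omega⟩
  have hij : i ≠ j := by simp [i, j]
  obtain ⟨u0, v0, hu0S, hv0S, hu0', hv0', huv0⟩ := exists_std_pair hF hij
  obtain ⟨g, -, hgu, hgv⟩ := exists_fixGU_pair hF (S := ∅) (u := u0) (v := v0) (u' := u) (v' := v)
    (by simp [supp_empty]) (by simp [supp_empty]) (by simp [supp_empty]) (by simp [supp_empty])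
    hu0' hv0' huv0 hu hv huv
  -- project `x` into the complement of the plane
  have hproj : ∀ z : Fin n → F, herm q z z = 0 → herm q u z = 0 → (∀ a : F, z ≠ a • u) →
      (g⁻¹ • (z - herm q z v • u)) ∈ supp ({i, j} : Finset (Fin n)) ∧
      herm q (z - herm q z v • u) (z - herm q z v • u) = 0 ∧
      g⁻¹ • (z - herm q z v • u) ≠ 0 := by
    intro z hz huz hzu
    have hzu' : herm q z u = 0 := (herm_eq_zero_comm hF).1 huz
    refine ⟨?_, ?_, ?_⟩
    · set z' := g⁻¹ • (z - herm q z v • u) with hz'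
      have h1 : herm q z' u0 = 0 := by
        rw [hz', ← herm_smul_GU g, smul_inv_smul, hgu, herm_sub_left, herm_smul_left, hu, hzu']
        ring
      have h2 : herm q z' v0 = 0 := by
        rw [hz', ← herm_smul_GU g, smul_inv_smul, hgv, herm_sub_left, herm_smul_left, huv]
        ring
      intro k hk
      have hek : (eI k : Fin n → F) ∈ supp (({i, j} : Finset (Fin n))ᶜ) :=
        eI_mem_supp (by rwa [Finset.mem_compl, not_not])
      have h3 := congrArg (fun y => herm q z' y) (eq_pair_combination hF hij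
        (fun l hl => by rwa [Finset.mem_compl, not_not, Finset.mem_insert, Finset.mem_singleton] at hl)
        (by simp) (by simp) hu0S hv0S hu0' hv0' huv0 hek)
      simp only [herm_eI_right hF, herm_add_right hF, herm_smul_right hF, h1, h2, mul_zero,
        add_zero] at h3
      exact h3
    · simp only [herm_sub_left, herm_sub_right hF, herm_smul_left, herm_smul_right hF, hz, hu, huz,
        hzu']
      ring
    · rw [Ne, smul_eq_zero_iff_eq, sub_eq_zero]
      exact hzu _
  obtain ⟨hxS, hxx, hx0⟩ := hproj x hx hux hxu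
  obtain ⟨hyS, hyy, hy0⟩ := hproj y hy huy hyu
  obtain ⟨t, ht, a, ha, hta⟩ := exists_move_point hF hxS hyS
    ((herm_smul_GU g⁻¹ _ _).trans hxx) ((herm_smul_GU g⁻¹ _ _).trans hyy) hx0 hy0
  obtain ⟨s, hs⟩ := exists_SU_of_GU_conj hF g t
  have htu0 : t • u0 = u0 := by
    rw [eq_sum_eI u0, Finset.smul_sum]
    refine Finset.sum_congr rfl fun k _ => ?_
    by_cases hk : k ∈ ({i, j} : Finset (Fin n))
    · rw [smul_comm, mem_fixS.1 (tvGroup_le_fixS hF ht) k hk]
    · rw [hu0S k (Finset.mem_compl.2 hk), zero_smul, smul_zero]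
  have hsu : s • u = u := by rw [hs, ← hgu, inv_smul_smul, htu0]
  have hsx : s • (x - herm q x v • u) = a • (y - herm q y v • u) := by
    rw [hs, hta, smul_comm g a, smul_inv_smul]
  -- correct the component along `u`
  set x' := x - herm q x v • u
  set y' := y - herm q y v • u
  have hy'u : herm q y' u = 0 := by
    simp only [y', herm_sub_left, herm_smul_left, hu, (herm_eq_zero_comm hF).1 huy]
    ring
  obtain ⟨z, hzS, hzz, hyz⟩ := exists_partner hF hyS ((herm_smul_GU g⁻¹ _ _).trans hyy) hy0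
  set z' := g • z
  have hzu : herm q z' u = 0 := by
    rw [← hgu, herm_smul_GU, herm, hermForm]
    refine Finset.sum_eq_zero fun k _ => ?_
    by_cases hk : k ∈ ({i, j} : Finset (Fin n))
    · rw [hzS k hk, zero_mul]
    · rw [hu0S k (Finset.mem_compl.2 hk), zero_pow_q hF, mul_zero]
  have hyz' : herm q y' z' = 1 := by
    conv_lhs => rw [← smul_inv_smul g y']
    rw [herm_smul_GU, hyz]
  clear_value z'
  -- `x ↦ a y' + h(x,v) u`; subtract a multiple of `u`
  set d := (herm q x v - a * herm q y v) / a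
  have hwu : herm q (d ^ q • z') u = 0 := by rw [herm_smul_left, hzu, mul_zero]
  obtain ⟨b, hb⟩ := exists_trace_eq hF (t := -herm q (d ^ q • z') (d ^ q • z'))
    (by rw [neg_pow_q hF, herm_self_fixed hF])
  refine ⟨Qel hF hu hwu hb * s, a, ?_, ?_⟩
  · rw [mul_smul, hsu, Qel_smul, hu, (herm_eq_zero_comm hF).1 hwu]
    simp
  · have hsx' : s • x = a • y' + herm q x v • u := by
      rw [← hsx, smul_sub, smul_comm s, hsu, sub_add_cancel]
    rw [mul_smul, hsx', Qel_smul]
    simp only [herm_add_left, herm_smul_left, hu, hy'u, herm_smul_right hF, pow_q_pow_q hF, hyz',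
      (herm_eq_zero_comm hF).1 hzu, y', d]
    match_scalars <;> field_simp <;> ring

theorem exists_stab_smul_nonorth (hn : 3 ≤ n) (h32 : ¬ (n = 3 ∧ q = 2)) {p x y : IsoPt hF n}
    (hx : ¬ Orth hF p x) (hy : ¬ Orth hF p y) :
    ∃ g : SU n F q, g • p = p ∧ g • x = y := by
  have h2 := two_le_q hF
  have key : ∀ z : IsoPt hF n, ¬ Orth hF p z →
      herm q ((herm q p.1.rep z.1.rep ^ q)⁻¹ • z.1.rep) ((herm q p.1.rep z.1.rep ^ q)⁻¹ • z.1.rep) = 0 ∧
      herm q p.1.rep ((herm q p.1.rep z.1.rep ^ q)⁻¹ • z.1.rep) = 1 := fun z hz =>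
    ⟨by rw [herm_smul_left, herm_smul_right hF, z.2, mul_zero, mul_zero],
      by rw [herm_smul_right hF, inv_pow, pow_q_pow_q hF, inv_mul_cancel₀ hz]⟩
  obtain ⟨g, -, hgp, hgx⟩ := exists_move_pair hF (S := ∅) (u := p.1.rep)
    (v := (herm q p.1.rep x.1.rep ^ q)⁻¹ • x.1.rep) (u' := p.1.rep)
    (v' := (herm q p.1.rep y.1.rep ^ q)⁻¹ • y.1.rep)
    (by simpa using hn) (by simp only [Finset.compl_empty, Finset.card_univ, Fintype.card_fin]; omega)
    (by simp [supp_empty]) (by simp [supp_empty]) p.2 (key x hx).1 (key x hx).2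
    (by simp [supp_empty]) (by simp [supp_empty]) p.2 (key y hy).1 (key y hy).2
  refine ⟨g, smul_eq_of_rep hF (a := 1) (by rw [hgp, one_smul]),
    smul_eq_of_rep hF (a := herm q p.1.rep x.1.rep ^ q * (herm q p.1.rep y.1.rep ^ q)⁻¹) ?_⟩
  rw [smul_comm] at hgx
  rw [mul_smul, ← hgx, smul_inv_smul₀ (mt (pow_q_eq_zero_iff hF).1 hx)]

theorem smul_mem_block {B : Set (IsoPt hF n)} (hB : IsBlock (SU n F q) B) {p x : IsoPt hF n}
    (hp : p ∈ B) (hx : x ∈ B) {g : SU n F q} (hg : g • p = p) : g • x ∈ B := by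
  have hfix : g • B = B := by
    rcases hB.smul_eq_or_disjoint g with h | h
    · exact h
    · exact absurd hp (Set.disjoint_left.1 h ⟨p, hp, hg⟩)
  rw [← hfix]
  exact Set.smul_mem_smul_set hx

theorem isPreprimitive_points (hn : 3 ≤ n) (h32 : ¬ (n = 3 ∧ q = 2)) :
    IsPreprimitive (SU n F q) (IsoPt hF n) := by
  haveI := isPretransitive_points hF (n := n)
  refine IsPreprimitive.mk ?_
  intro B hB
  by_cases hsub : B.Subsingleton
  · exact Or.inl hsub
  refine Or.inr (Set.eq_univ_of_forall ?_)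
  obtain ⟨p, hp, x, hx, hpx⟩ := Set.not_subsingleton_iff.1 hsub
  have no : ∀ {p x : IsoPt hF n}, p ∈ B → x ∈ B → ¬ Orth hF p x →
      ∀ y, ¬ Orth hF p y → y ∈ B := by
    intro p x hp hx h y hy
    obtain ⟨g, hgp, rfl⟩ := exists_stab_smul_nonorth hF hn h32 h hy
    exact smul_mem_block hF hB hp hx hgp
  have oo : ∀ {p x : IsoPt hF n}, p ∈ B → x ∈ B → Orth hF p x → x ≠ p →
      ∀ y, Orth hF p y → y ≠ p → y ∈ B := by
    intro p x hp hx h hne y hy hyne
    obtain ⟨g, b, hgp, hgx⟩ := exists_orth_move hF (by omega : 2 ≤ n) p.2 p.1.rep_nonzero x.2 h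
      (ne_smul_of_ne hF hne) y.2 hy (ne_smul_of_ne hF hyne)
    have e := smul_eq_of_rep hF hgx
    exact e ▸ smul_mem_block hF hB hp hx (smul_eq_of_rep hF (a := 1) (by rw [hgp, one_smul]))
  intro r
  by_cases hpxo : Orth hF p x
  · by_cases hrp : r = p
    · exact hrp ▸ hp
    by_cases hpr : Orth hF p r
    · exact oo hp hx hpxo (Ne.symm hpx) r hpr hrp
    · -- a point orthogonal to both `p` and `r`
      set v := (herm q p.1.rep r.1.rep ^ q)⁻¹ • r.1.rep with hv
      have huv : herm q p.1.rep v = 1 := by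
        rw [hv, herm_smul_right hF, inv_pow, pow_q_pow_q hF, inv_mul_cancel₀ hpr]
      have hxp : herm q x.1.rep p.1.rep = 0 := (herm_eq_zero_comm hF).1 hpxo
      set w := x.1.rep - herm q x.1.rep v • p.1.rep with hw
      have hw0 : w ≠ 0 := sub_ne_zero.2 (ne_smul_of_ne hF (Ne.symm hpx) _)
      have hwp : herm q w p.1.rep = 0 := by
        simp only [hw, herm_sub_left, herm_smul_left, hxp, p.2]; ring
      have hpw : herm q p.1.rep w = 0 := (herm_eq_zero_comm hF).1 hwp
      have hwv : herm q w v = 0 := by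
        simp only [hw, herm_sub_left, herm_smul_left, huv]; ring
      have hww : herm q w w = 0 := by
        simp only [hw, herm_sub_left, herm_sub_right hF, herm_smul_left, herm_smul_right hF, x.2,
          p.2, hxp, show herm q p.1.rep x.1.rep = 0 from hpxo]
        ring
      obtain ⟨s, a, ha, hs⟩ := exists_pt hF hw0 hww
      have hps : Orth hF p s := by rw [Orth, hs, herm_smul_right hF, hpw, mul_zero]
      have hsr : Orth hF s r := by
        have : herm q w r.1.rep = 0 := by
          rw [hv, herm_smul_right hF] at hwv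
          exact (mul_eq_zero.1 hwv).resolve_left (pow_ne_zero _ (inv_ne_zero
            (mt (pow_q_eq_zero_iff hF).1 hpr)))
        rw [Orth, hs, herm_smul_left, this, mul_zero]
      have hsp : s ≠ p := fun e => hpr (e ▸ hsr)
      exact oo (oo hp hx hpxo (Ne.symm hpx) s hps hsp) hp ((orth_comm hF).1 hps) hsp.symm r hsr
        fun e => hpr (e ▸ hps)
  · by_cases hpr : Orth hF p r
    · obtain ⟨z, hz0, hzz, hpz, hzr⟩ :=
        exists_nonorth hF p.2 r.2 p.1.rep_nonzero r.1.rep_nonzero hpr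
      obtain ⟨s, a, ha, hs⟩ := exists_pt hF hz0 hzz
      have hps : ¬ Orth hF p s := by
        rw [Orth, hs, herm_smul_right hF]
        exact mul_ne_zero (mt (pow_q_eq_zero_iff hF).1 ha) hpz
      have hsr : ¬ Orth hF s r := by
        rw [Orth, hs, herm_smul_left]
        exact mul_ne_zero ha hzr
      exact no (no hp hx hpxo s hps) hp (mt (orth_comm hF).1 hps) r hsr
    · exact no hp hx hpxo r hpr

/-- The transvection group of a point. -/
def rootGroup {u : Fin n → F} (hu : herm q u u = 0) : Subgroup (SU n F q) where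
  carrier := {g | ∃ (c : F) (hc : c + c ^ q = 0), g = tv hF hu hc}
  mul_mem' := by
    rintro _ _ ⟨c, hc, rfl⟩ ⟨d, hd, rfl⟩
    refine ⟨c + d, by rw [add_pow_q hF]; linear_combination hc + hd, eq_of_smul_eq_SU fun x => ?_⟩
    simp only [mul_smul, tv_smul, herm_add_left, herm_smul_left, hu]
    module
  one_mem' := ⟨0, by simp [zero_pow_q hF], eq_of_smul_eq_SU fun x => by rw [tv_smul]; simp⟩
  inv_mem' := by
    rintro _ ⟨c, hc, rfl⟩
    refine ⟨-c, by rw [neg_pow_q hF]; linear_combination -hc,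
      inv_eq_of_mul_eq_one_right (eq_of_smul_eq_SU fun x => ?_)⟩
    simp only [mul_smul, tv_smul, herm_add_left, herm_smul_left, hu, one_smul]
    module

theorem mem_rootGroup {u : Fin n → F} {hu : herm q u u = 0} {g : SU n F q} :
    g ∈ rootGroup hF hu ↔ ∃ (c : F) (hc : c + c ^ q = 0), g = tv hF hu hc := Iff.rfl

theorem rootGroup_eq {u u' : Fin n → F} {hu : herm q u u = 0} {hu' : herm q u' u' = 0} {a : F}
    (ha : a ≠ 0) (h : a • u = u') : rootGroup hF hu' = rootGroup hF hu := by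
  subst h
  have hn : (a * a ^ q) ^ q = a * a ^ q := by rw [mul_pow, pow_q_pow_q hF, mul_comm]
  have hne : a * a ^ q ≠ 0 := mul_ne_zero ha (mt (pow_q_eq_zero_iff hF).1 ha)
  have hne' : a ^ q ≠ 0 := mt (pow_q_eq_zero_iff hF).1 ha
  ext g
  simp only [mem_rootGroup]
  constructor
  · rintro ⟨c, hc, rfl⟩
    refine ⟨a * a ^ q * c, by rw [mul_pow, hn]; linear_combination (a * a ^ q) * hc,
      eq_of_smul_eq_SU fun x => ?_⟩
    rw [tv_smul, tv_smul, herm_smul_right hF, smul_smul]
    congr 2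
    ring
  · rintro ⟨c, hc, rfl⟩
    refine ⟨(a * a ^ q)⁻¹ * c,
      by rw [mul_pow, inv_pow, hn]; linear_combination (a * a ^ q)⁻¹ * hc,
      eq_of_smul_eq_SU fun x => ?_⟩
    rw [tv_smul, tv_smul, herm_smul_right hF, smul_smul]
    congr 2
    field_simp

/-- The Iwasawa structure of transvection groups on isotropic points. -/
noncomputable def iwasawa (h32 : ¬ (n = 3 ∧ q = 2)) : IwasawaStructure (SU n F q) (IsoPt hF n) where
  T p := rootGroup hF p.2
  is_comm p := ⟨⟨fun ⟨g, hg⟩ ⟨h, hh⟩ => by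
    obtain ⟨c, hc, rfl⟩ := hg
    obtain ⟨d, hd, rfl⟩ := hh
    refine Subtype.ext (eq_of_smul_eq_SU fun x => ?_)
    simp only [Subgroup.coe_mul, mul_smul, tv_smul, herm_add_left, herm_smul_left, p.2]
    module⟩⟩
  is_conj g p := by
    have hne : g • p.1.rep ≠ 0 := (smul_ne_zero_iff_ne g).2 p.1.rep_nonzero
    obtain ⟨a, ha⟩ := (Projectivization.mk_eq_mk_iff' F _ _ (g • p.1).rep_nonzero hne).1
      (by rw [Projectivization.mk_rep, ← smul_mk_SU g p.1.rep_nonzero,
        Projectivization.mk_rep])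
    have ha0 : a ≠ 0 := fun e => (g • p.1).rep_nonzero (by rw [← ha, e, zero_smul])
    rw [rootGroup_eq hF (hu := (herm_smul_SU g _ _).trans p.2) (hu' := (g • p).2) ha0 ha]
    ext k
    rw [mem_rootGroup, Subgroup.mem_pointwise_smul_iff_inv_smul_mem, mem_rootGroup]
    simp only [MulAut.smul_def, MulAut.conj_inv_apply]
    constructor
    · rintro ⟨c, hc, rfl⟩
      exact ⟨c, hc, by rw [← conj_tv hF g p.2 hc]; group⟩
    · rintro ⟨c, hc, hck⟩
      exact ⟨c, hc, by rw [← conj_tv hF g p.2 hc, ← hck]; group⟩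
  is_generator := by
    rw [eq_top_iff, ← tvGroup_empty hF h32, tvGroup, Subgroup.closure_le]
    rintro _ ⟨u, c, hu, hc, -, rfl⟩
    by_cases hu0 : u = 0
    · have : tv hF hu hc = 1 := eq_of_smul_eq_SU fun x => by rw [tv_smul, hu0]; simp
      rw [this]
      exact one_mem _
    · obtain ⟨p, a, ha, hp⟩ := exists_pt hF hu0 hu
      refine Subgroup.mem_iSup_of_mem p ?_
      rw [rootGroup_eq hF (hu := hu) (hu' := p.2) ha hp.symm]
      exact ⟨c, hc, rfl⟩

include hF in
/-- Simplicity of `PSU_n(q)`. -/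
theorem isSimpleGroup_PSU (hn : 3 ≤ n) (h32 : ¬ (n = 3 ∧ q = 2)) :
    IsSimpleGroup (SU n F q ⧸ Subgroup.center (SU n F q)) := by
  have : IsPreprimitive (SU n F q) (IsoPt hF n) := isPreprimitive_points hF hn h32
  have hperf := commutator_SU_eq_top hF hn h32
  have : Nontrivial (SU n F q ⧸ Subgroup.center (SU n F q)) := by
    refine QuotientGroup.nontrivial_iff.2 fun h => ?_
    obtain ⟨u, v, -, -, hu, -, huv⟩ :=
      exists_std_pair hF (i := (⟨0, by omega⟩ : Fin n)) (j := ⟨1, by omega⟩) (by simp)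
    obtain ⟨c, hc0, hc⟩ := exists_trace_zero_ne_zero hF
    have hmem : tv hF hu hc ∈ Subgroup.center (SU n F q) := h ▸ Subgroup.mem_top _
    obtain ⟨r, hr⟩ := (mem_center_iff hF (by omega : 2 ≤ n)).1 hmem
    have hv := hr v
    rw [tv_smul, herm_one_swap hF huv, mul_one] at hv
    have h2 := congrArg (fun x => herm q x u) hv
    simp only [herm_add_left, herm_smul_left, hu, herm_one_swap hF huv, mul_zero, add_zero] at h2
    rw [mul_one] at h2
    rw [← h2, one_smul, add_eq_left, smul_eq_zero] at hv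
    exact hv.elim hc0 (ne_zero_of_herm_one hF huv)
  refine ⟨fun N hN => ?_⟩
  set π := QuotientGroup.mk' (Subgroup.center (SU n F q))
  have hsurj : Function.Surjective π := QuotientGroup.mk'_surjective _
  have hNeq : (N.comap π).map π = N := Subgroup.map_comap_eq_self_of_surjective hsurj N
  by_cases hfix : fixedPoints (N.comap π) (IsoPt hF n) = .univ
  · left
    rw [← hNeq, Subgroup.map_eq_bot_iff, QuotientGroup.ker_mk']
    intro g hg
    rw [mem_center_iff hF (by omega : 2 ≤ n)]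
    obtain ⟨r, -, -, hr⟩ := scalar_of_fix_isotropic_lines hF (by omega : 2 ≤ n) (g := g)
      fun u hu => by
        by_cases hu0 : u = 0
        · exact ⟨1, by simp [hu0]⟩
        obtain ⟨p, a, ha, hp⟩ := exists_pt hF hu0 hu
        have h := (Set.eq_univ_iff_forall.1 hfix p) ⟨g, hg⟩
        rw [Subgroup.mk_smul] at h
        have h' := congrArg Subtype.val h
        rw [coe_smul_pt, ← p.1.mk_rep, smul_mk_SU] at h'
        obtain ⟨b, hb⟩ := (Projectivization.mk_eq_mk_iff' F _ _ _ _).1 h'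
        refine ⟨b, ?_⟩
        rw [hp, smul_comm g a, smul_comm b a] at hb
        exact (smul_right_injective _ ha hb).symm
    exact ⟨r, hr⟩
  · right
    have := (iwasawa hF h32).commutator_le (N.comap π) hfix
    rw [hperf, top_le_iff] at this
    rw [← hNeq, this, Subgroup.map_top_of_surjective _ hsurj]

end Cfsg.Agent.Unitary
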