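import Cfsg.Agent.Lib.Unitary.Basic

/-!
Numbers of vectors of given Hermitian norm, and the orders of `GU` and `SU` (helper10).
-/

set_option autoImplicit false

namespace Cfsg.Agent.Unitary

open Matrix

variable {F : Type*} [Field F] [Fintype F] {n q : ℕ} (hF : Fintype.card F = q ^ 2)

/-- The number of vectors of norm `t`. -/
noncomputable def nvec (n : ℕ) (F : Type*) [Field F] (q : ℕ) (t : F) : ℕ :=
  Nat.card {v : Fin n → F // herm q v v = t}

omit [Fintype F] in
theorem herm_cons (x : F) (v : Fin n → F) :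
    herm q (Fin.cons x v : Fin (n + 1) → F) (Fin.cons x v) = x ^ (q + 1) + herm q v v := by
  simp only [herm, hermForm, Fin.sum_univ_succ, Fin.cons_zero, Fin.cons_succ, pow_succ']

theorem nvec_succ (t : F) :
    nvec (n + 1) F q t = ∑ x : F, nvec n F q (t - x ^ (q + 1)) := by
  classical
  unfold nvec
  rw [← Nat.card_sigma]
  exact Nat.card_congr
    { toFun := fun v => ⟨v.1 0, ⟨Fin.tail v.1, by
        have h := v.2
        rw [← Fin.cons_self_tail v.1, herm_cons] at h
        exact eq_sub_of_add_eq' h⟩⟩
      invFun := fun s => ⟨Fin.cons s.1 s.2.1, by rw [herm_cons, s.2.2, add_sub_cancel]⟩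
      left_inv := fun v => Subtype.ext (Fin.cons_self_tail v.1)
      right_inv := fun s => by
        obtain ⟨x, v, hv⟩ := s
        refine Sigma.ext (by simp) ?_
        refine (Subtype.heq_iff_coe_eq fun w => ?_).2 (by simp)
        simp }

include hF

theorem nvec_eq_one {t : F} (ht : t ^ q = t) (h0 : t ≠ 0) : nvec n F q t = nvec n F q 1 := by
  obtain ⟨a, ha⟩ := exists_norm_eq hF ht
  have ha0 : a ≠ 0 := fun e => h0 (by simp [← ha, e])
  have key : ∀ (b : F) (v : Fin n → F), herm q (b • v) (b • v) = b ^ (q + 1) * herm q v v :=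
    fun b v => by rw [herm_smul_left, herm_smul_right hF, pow_succ']; ring
  exact Nat.card_congr
    { toFun := fun v => ⟨a⁻¹ • v.1, by rw [key, v.2, inv_pow, ha, inv_mul_cancel₀ h0]⟩
      invFun := fun v => ⟨a • v.1, by rw [key, v.2, ha, mul_one]⟩
      left_inv := fun v => Subtype.ext (smul_inv_smul₀ ha0 v.1)
      right_inv := fun v => Subtype.ext (inv_smul_smul₀ ha0 v.1) }

theorem nvec_succ_zero :
    (nvec (n + 1) F q 0 : ℤ) = nvec n F q 0 + ((q : ℤ) ^ 2 - 1) * nvec n F q 1 := by
  classical
  rw [nvec_succ, ← Finset.add_sum_erase _ _ (Finset.mem_univ (0 : F))]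
  have e : ∀ x ∈ Finset.univ.erase (0 : F),
      nvec n F q (0 - x ^ (q + 1)) = nvec n F q 1 := fun x hx => by
    refine nvec_eq_one hF ?_ ?_
    · rw [zero_sub, neg_pow_q hF, norm_fixed hF]
    · rw [zero_sub, neg_ne_zero]
      exact pow_ne_zero _ (Finset.ne_of_mem_erase hx)
  rw [Finset.sum_congr rfl e, Finset.sum_const, Finset.card_erase_of_mem (Finset.mem_univ _),
    Finset.card_univ, hF]
  have : 1 ≤ q ^ 2 := Nat.one_le_pow _ _ (q_pos hF)
  simp [zero_sub, Nat.cast_sub this]

theorem nvec_total :
    (nvec n F q 0 : ℤ) + ((q : ℤ) - 1) * nvec n F q 1 = (q : ℤ) ^ (2 * n) := by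
  classical
  let f : (Fin n → F) → {x : F // x ^ q = x} := fun v => ⟨herm q v v, herm_self_fixed hF v⟩
  have h := Nat.card_congr (Equiv.sigmaFiberEquiv f)
  rw [Nat.card_sigma, Nat.card_fun, Nat.card_eq_fintype_card (α := F), hF, Nat.card_fin,
    ← pow_mul] at h
  have e : ∀ t : {x : F // x ^ q = x}, Nat.card {v // f v = t} = nvec n F q t.1 := fun t =>
    Nat.card_congr (Equiv.subtypeEquivRight fun v => Subtype.ext_iff)
  simp only [e] at h
  set z : {x : F // x ^ q = x} := ⟨0, zero_pow_q hF⟩
  rw [← Finset.add_sum_erase _ _ (Finset.mem_univ z),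
    Finset.sum_congr rfl (fun t ht => nvec_eq_one hF t.2
      (fun e0 => Finset.ne_of_mem_erase ht (Subtype.ext e0))),
    Finset.sum_const, Finset.card_erase_of_mem (Finset.mem_univ _), Finset.card_univ,
    ← Nat.card_eq_fintype_card, card_fixed hF] at h
  have h' := congrArg (Nat.cast (R := ℤ)) h
  push_cast [Nat.cast_sub (show 1 ≤ q from q_pos hF), smul_eq_mul] at h'
  exact h'

theorem q_mul_nvec_zero (n : ℕ) :
    (q : ℤ) * nvec n F q 0 = q ^ (2 * n) + (-1) ^ n * (q ^ (n + 1) - q ^ n) := by
  induction n with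
  | zero =>
    have h : nvec 0 F q 0 = 1 := by
      unfold nvec
      have : Nonempty {v : Fin 0 → F // herm q v v = 0} := ⟨⟨0, herm_zero_left 0⟩⟩
      exact Nat.card_eq_one_iff_unique.2
        ⟨⟨fun a b => Subtype.ext (Subsingleton.elim _ _)⟩, this⟩
    rw [h]; simp
  | succ k ih =>
    have ht := nvec_total hF (n := k)
    have hz := nvec_succ_zero hF (n := k)
    have h1 : ((q : ℤ) - 1) * (q * nvec (k + 1) F q 0) =
        ((q : ℤ) - 1) * ((q : ℤ) ^ (2 * (k + 1)) + (-1) ^ (k + 1) * (q ^ (k + 1 + 1) - q ^ (k + 1))) := by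
      rw [hz]
      linear_combination (q * ((q : ℤ) ^ 2 - 1)) * ht + ((q : ℤ) - q ^ 2) * ih
    have : (2 : ℤ) ≤ q := by exact_mod_cast two_le_q hF
    exact mul_left_cancel₀ (by omega) h1

theorem q_mul_nvec_one (n : ℕ) :
    (q : ℤ) * nvec n F q 1 = q ^ (2 * n) - (-1) ^ n * q ^ n := by
  have : (2 : ℤ) ≤ q := by exact_mod_cast two_le_q hF
  refine mul_left_cancel₀ (a := (q : ℤ) - 1) (by omega) ?_
  linear_combination (q : ℤ) * nvec_total hF (n := n) - q_mul_nvec_zero hF n

theorem nvec_one_formula (n : ℕ) :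
    nvec n F q 1 = if Even n then q ^ (n - 1) * (q ^ n - 1) else q ^ (n - 1) * (q ^ n + 1) := by
  have hq := q_pos hF
  rcases n with _ | k
  · have h := q_mul_nvec_one hF 0
    simp at h
    simp [show nvec 0 F q 1 = 0 by
      rcases h with h | h
      · omega
      · exact h]
  · refine Nat.eq_of_mul_eq_mul_left hq ?_
    have h1 : 1 ≤ q ^ (k + 1) := Nat.one_le_pow _ _ hq
    have h := q_mul_nvec_one hF (k + 1)
    simp only [Nat.add_sub_cancel]
    split_ifs with he
    · rw [he.neg_one_pow] at h
      zify [h1]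
      rw [h]; ring
    · rw [(Nat.not_even_iff_odd.1 he).neg_one_pow] at h
      zify
      rw [h]; ring

theorem nvec_zero_formula (n : ℕ) :
    nvec n F q 0 = (if Even n then (q ^ n - 1) * (q ^ (n - 1) + 1)
      else (q ^ n + 1) * (q ^ (n - 1) - 1)) + 1 := by
  have hq := q_pos hF
  rcases n with _ | k
  · have h := q_mul_nvec_zero hF 0
    refine Nat.eq_of_mul_eq_mul_left hq ?_
    zify
    rw [h]; simp
  · refine Nat.eq_of_mul_eq_mul_left hq ?_
    have h1 : 1 ≤ q ^ (k + 1) := Nat.one_le_pow _ _ hq
    have h2 : 1 ≤ q ^ k := Nat.one_le_pow _ _ hq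
    have h := q_mul_nvec_zero hF (k + 1)
    simp only [Nat.add_sub_cancel]
    split_ifs with he
    · rw [he.neg_one_pow] at h
      zify [h1]
      rw [h]; ring
    · rw [(Nat.not_even_iff_odd.1 he).neg_one_pow] at h
      zify [h2]
      rw [h]; ring

/-! ### The order of `GU` -/

omit hF in
theorem card_supp_norm_one (S : Finset (Fin n)) :
    Nat.card {v : Fin n → F // v ∈ supp S ∧ herm q v v = 1} = 
      Nat.card {w : {i // i ∉ S} → F // ∑ i, w i * w i ^ q = 1} := by
  classical
  have hs : ∀ v : Fin n → F, v ∈ supp S →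
      herm q v v = ∑ i : {i // i ∉ S}, v i.1 * v i.1 ^ q := fun v hv => by
    rw [herm, hermForm, ← Finset.sum_subset (Finset.subset_univ Sᶜ) (fun i _ hi => by
      simp only [Finset.mem_compl, not_not] at hi
      simp [hv i hi])]
    exact Finset.sum_subtype Sᶜ (fun x => by simp) _
  exact Nat.card_congr
    { toFun := fun v => ⟨fun i => v.1 i.1, by rw [← hs v.1 v.2.1]; exact v.2.2⟩
      invFun := fun w => ⟨fun i => if h : i ∈ S then 0 else w.1 ⟨i, h⟩, fun i hi => by simp [hi],
        by
          rw [hs _ (fun i hi => by simp [hi])]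
          refine Eq.trans (Finset.sum_congr rfl fun i _ => ?_) w.2
          simp [i.2]⟩
      left_inv := fun v => by
        refine Subtype.ext (funext fun i => ?_)
        by_cases h : i ∈ S
        · simp [h, v.2.1 i h]
        · simp [h]
      right_inv := fun w => Subtype.ext (funext fun i => by simp [i.2]) }

omit hF in
theorem card_supp_norm_one' (S : Finset (Fin n)) :
    Nat.card {v : Fin n → F // v ∈ supp S ∧ herm q v v = 1} = nvec Sᶜ.card F q 1 := by
  classical
  rw [card_supp_norm_one]
  let e : {i // i ∉ S} ≃ Fin Sᶜ.card :=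
    (Equiv.subtypeEquivRight fun i => by simp).trans Sᶜ.equivFin
  refine Nat.card_congr (Equiv.subtypeEquiv (Equiv.arrowCongr e (Equiv.refl F)) fun w => ?_)
  rw [herm, hermForm]
  refine iff_of_eq (congrArg (· = (1 : F)) ?_)
  exact Fintype.sum_equiv e _ _ fun i => by simp [Equiv.arrowCongr]

/-- `GU` fixing `S` is transitive on norm one vectors supported outside `S`. -/
theorem exists_fixGU_smul_eq {S : Finset (Fin n)} {x x' : Fin n → F} (hx : x ∈ supp S)
    (hx' : x' ∈ supp S) (hxx : herm q x x = herm q x' x') (h0 : herm q x x ≠ 0) :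
    ∃ g : GU n F q, g ∈ fixGU S ∧ g • x = x' := by
  classical
  set f : (Fin n → F) →ₗ[F] (Fin n → F) :=
    { toFun := fun v => (∑ i ∈ S, v i • eI i) + (herm q v x / herm q x x) • x'
      map_add' := fun v w => by
        simp only [Pi.add_apply, add_smul, Finset.sum_add_distrib, herm_add_left, add_div]
        abel
      map_smul' := fun a v => by
        simp only [Pi.smul_apply, smul_eq_mul, herm_smul_left, RingHom.id_apply, smul_add,
          Finset.smul_sum, smul_smul, mul_div_assoc] }
  set X : Submodule F (Fin n → F) := Submodule.span F ((eI '' (S : Set (Fin n))) ∪ {x})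
  have hfix : ∀ i ∈ S, f (eI i) = eI i := fun i hi => by
    simp only [f, LinearMap.coe_mk, AddHom.coe_mk, herm_eI_left, hx i hi, zero_pow_q hF, zero_div,
      zero_smul, add_zero]
    rw [Finset.sum_eq_single i (fun j _ hj => by simp [eI, hj]) (fun h => absurd hi h)]
    simp [eI]
  have hfx : f x = x' := by
    simp only [f, LinearMap.coe_mk, AddHom.coe_mk, div_self h0, one_smul]
    rw [Finset.sum_eq_zero fun i hi => by rw [hx i hi, zero_smul], zero_add]
  have hf : ∀ u ∈ X, ∀ v ∈ X, herm q (f u) (f v) = herm q u v := by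
    intro u hu v hv
    induction hu using Submodule.span_induction with
    | mem u hu =>
      induction hv using Submodule.span_induction with
      | mem v hv =>
        rcases hu with ⟨i, hi, rfl⟩ | rfl <;> rcases hv with ⟨j, hj, rfl⟩ | rfl
        · rw [hfix i hi, hfix j hj]
        · rw [hfix i hi, hfx, herm_eI_left, herm_eI_left, hx' i hi, hx i hi]
        · rw [hfx, hfix j hj, herm_eI_right hF, herm_eI_right hF, hx' j hj, hx j hj]
        · rw [hfx, hxx]
      | zero => simp [herm_zero_right hF]
      | add v w _ _ hv hw => rw [map_add, herm_add_right hF, herm_add_right hF, hv, hw]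
      | smul a v _ hv => rw [map_smul, herm_smul_right hF, herm_smul_right hF, hv]
    | zero => simp
    | add u w _ _ hu hw => rw [map_add, herm_add_left, herm_add_left, hu, hw]
    | smul a u _ hu => rw [map_smul, herm_smul_left, herm_smul_left, hu]
  have hxX : x ∈ X := Submodule.subset_span (Or.inr rfl)
  obtain ⟨g, hg, hgX⟩ := exists_fixGU_of_map hF S X f
    (fun i hi => Submodule.subset_span (Or.inl ⟨i, hi, rfl⟩)) hfix
    (fun v hv h => by
      have hdec : v = (∑ i ∈ S, v i • eI i) + (herm q v x / herm q x x) • x := by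
        clear h
        induction hv using Submodule.span_induction with
        | mem z hz =>
          rcases hz with ⟨i, hi, rfl⟩ | rfl
          · rw [herm_eI_left, hx i hi, zero_pow_q hF, zero_div, zero_smul, add_zero]
            rw [Finset.sum_eq_single i (fun j _ hj => by simp [eI, hj]) (fun h => absurd hi h)]
            simp [eI]
          · rw [div_self h0, one_smul, Finset.sum_eq_zero fun i hi => by rw [hx i hi, zero_smul],
              zero_add]
        | zero => simp
        | add a b _ _ ha hb =>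
          simp only [Pi.add_apply, add_smul, Finset.sum_add_distrib, herm_add_left, add_div]
          conv_lhs => rw [ha, hb]
          abel
        | smul r a _ ha =>
          simp only [Pi.smul_apply, smul_eq_mul, herm_smul_left, mul_smul, mul_div_assoc]
          conv_lhs => rw [ha, smul_add, Finset.smul_sum]
      simp only [f, LinearMap.coe_mk, AddHom.coe_mk] at h
      have hcoord : ∀ i ∈ S, v i = 0 := fun i hi => by
        have h2 := congrFun h i
        simpa [Finset.sum_apply, eI, Pi.single_apply, hi, hx' i hi] using h2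
      rw [Finset.sum_eq_zero fun i hi => by rw [hcoord i hi, zero_smul], zero_add] at h hdec
      have hx'0 : x' ≠ 0 := fun e => h0 (by rw [hxx, e, herm_zero_left])
      rw [hdec, (smul_eq_zero.1 h).resolve_right hx'0, zero_smul])
    hf
  exact ⟨g, hg, by rw [hgX x hxX, hfx]⟩

theorem card_fixGU_succ {S : Finset (Fin n)} {j : Fin n} (hj : j ∉ S) :
    Nat.card (fixGU S : Subgroup (GU n F q)) =
      nvec Sᶜ.card F q 1 * Nat.card (fixGU (insert j S) : Subgroup (GU n F q)) := by
  set H : Subgroup (GU n F q) := fixGU S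
  set p : Fin n → F := eI j
  have hp1 : herm q p p = 1 := by simp [p, herm_eI_eI hF]
  have horb : MulAction.orbit H p = {v : Fin n → F | v ∈ supp S ∧ herm q v v = 1} := by
    ext v
    constructor
    · rintro ⟨g, rfl⟩
      exact ⟨smul_mem_supp_GU hF g.2 (eI_mem_supp hj), (herm_smul_GU g.1 _ _).trans hp1⟩
    · rintro ⟨hv, hv1⟩
      obtain ⟨g, hg, hgp⟩ := exists_fixGU_smul_eq hF (x := p) (x' := v) (eI_mem_supp hj) hv
        (by rw [hp1, hv1]) (by rw [hp1]; exact one_ne_zero)
      exact ⟨⟨g, hg⟩, hgp⟩
  have hle : (fixGU (insert j S) : Subgroup (GU n F q)) ≤ H := fun g hg =>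
    mem_fixGU.2 fun i hi => mem_fixGU.1 hg i (Finset.mem_insert_of_mem hi)
  have hstab : MulAction.stabilizer H p =
      (fixGU (insert j S) : Subgroup (GU n F q)).subgroupOf H := by
    ext g
    rw [MulAction.mem_stabilizer_iff, Subgroup.mem_subgroupOf, mem_fixGU]
    constructor
    · intro h i hi
      rcases Finset.mem_insert.1 hi with rfl | hi
      · exact h
      · exact mem_fixGU.1 g.2 i hi
    · intro h
      exact h j (Finset.mem_insert_self j S)
  rw [← (MulAction.stabilizer H p).card_mul_index, MulAction.index_stabilizer, horb, hstab,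
    Nat.card_congr (Subgroup.subgroupOfEquivOfLe hle).toEquiv, mul_comm,
    ← card_supp_norm_one' (q := q) S, ← Nat.card_coe_set_eq]
  rfl

theorem card_fixGU : ∀ (k : ℕ) (S : Finset (Fin n)), Sᶜ.card = k →
    Nat.card (fixGU S : Subgroup (GU n F q)) = q ^ (k * (k - 1) / 2) *
      ∏ i ∈ Finset.range k, (if Even i then q ^ (i + 1) + 1 else q ^ (i + 1) - 1) := by
  intro k
  induction k with
  | zero =>
    intro S hS
    rw [Finset.card_eq_zero, Finset.compl_eq_empty_iff] at hS
    subst hS
    have : (fixGU Finset.univ : Subgroup (GU n F q)) = ⊥ := by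
      rw [Subgroup.eq_bot_iff_forall]
      intro g hg
      refine eq_of_smul_eq_GU fun v => ?_
      rw [eq_sum_eI v, Finset.smul_sum, one_smul]
      exact Finset.sum_congr rfl fun i _ => by
        rw [smul_comm, mem_fixGU.1 hg i (Finset.mem_univ i)]
    simp [this]
  | succ k ih =>
    intro S hS
    obtain ⟨j, hj⟩ := Finset.card_pos.1 (by omega : 0 < Sᶜ.card)
    rw [Finset.mem_compl] at hj
    have hins : (insert j S)ᶜ.card = k := by
      rw [Finset.compl_insert, Finset.card_erase_of_mem (Finset.mem_compl.2 hj), hS]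
      rfl
    have hexp : (k + 1) * (k + 1 - 1) / 2 = k + k * (k - 1) / 2 := by
      rw [← Finset.sum_range_id, ← Finset.sum_range_id, Finset.sum_range_succ, add_comm]
    rw [card_fixGU_succ hF hj, ih _ hins, Finset.prod_range_succ, hS, nvec_one_formula hF, hexp,
      pow_add, Nat.add_sub_cancel]
    rcases Nat.even_or_odd k with he | ho
    · rw [if_neg (by simp [Nat.even_add_one, he]), if_pos he]
      ring
    · rw [if_pos (by simp [Nat.even_add_one, Nat.not_even_iff_odd.2 ho]),
        if_neg (Nat.not_even_iff_odd.2 ho)]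
      ring

theorem card_GU (n : ℕ) :
    Nat.card (GU n F q) = q ^ (n * (n - 1) / 2) *
      ∏ i ∈ Finset.range n, (if Even i then q ^ (i + 1) + 1 else q ^ (i + 1) - 1) := by
  have h := card_fixGU hF (n := n) n ∅ (by simp)
  rw [fixGU] at h
  simpa using h

/-! ### Determinants -/

/-- The determinant on `GU`. -/
noncomputable def detGU : GU n F q →* Fˣ :=
  (Matrix.GeneralLinearGroup.det).comp (GU n F q).subtype

omit hF in
theorem coe_detGU (g : GU n F q) :
    (detGU g : F) = ((g : GL (Fin n) F) : Matrix (Fin n) (Fin n) F).det := rfl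

theorem det_norm (g : GU n F q) : (detGU g : F) ^ (q + 1) = 1 := by
  set M : Matrix (Fin n) (Fin n) F := ((g : GL (Fin n) F) : Matrix (Fin n) (Fin n) F)
  have hM : Mᵀ * (conjHom hF).mapMatrix M = 1 := by
    ext i j
    have h := herm_smul_GU g (eI i) (eI j)
    rw [herm_eI_eI hF] at h
    rw [Matrix.one_apply, ← h, Matrix.mul_apply, herm, hermForm]
    refine Finset.sum_congr rfl fun k _ => ?_
    have e : ∀ l, (g • (eI l : Fin n → F)) k = M k l := fun l => by
      show (M *ᵥ eI l) k = _
      simp [eI, Matrix.mulVec_single]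
    rw [e, e]
    rfl
  have := congrArg Matrix.det hM
  rw [Matrix.det_mul, Matrix.det_transpose, ← RingHom.map_det, Matrix.det_one, conjHom_apply] at this
  rw [coe_detGU, pow_succ']
  exact this

theorem exists_det_eq (hn : 1 ≤ n) {a : F} (ha : a ^ (q + 1) = 1) :
    ∃ g : GU n F q, (detGU g : F) = a := by
  let i : Fin n := ⟨0, hn⟩
  have hM : ∀ x y : Fin n → F, herm q (Matrix.diagonal (Function.update 1 i a) *ᵥ x)
      (Matrix.diagonal (Function.update 1 i a) *ᵥ y) = herm q x y := by
    intro x y
    rw [herm, herm, hermForm, hermForm]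
    refine Finset.sum_congr rfl fun k _ => ?_
    rw [Matrix.mulVec_diagonal, Matrix.mulVec_diagonal]
    by_cases hk : k = i
    · subst hk
      rw [Function.update_self, mul_pow]
      calc a * x i * (a ^ q * y i ^ q) = a ^ (q + 1) * (x i * y i ^ q) := by rw [pow_succ]; ring
        _ = _ := by rw [ha, one_mul]
    · simp [hk]
  refine ⟨mkGU hF _ hM, ?_⟩
  show (Matrix.diagonal (Function.update (1 : Fin n → F) i a)).det = a
  rw [Matrix.det_diagonal, Finset.prod_update_of_mem (Finset.mem_univ i)]
  simp

omit hF in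
theorem toGU_injective : Function.Injective (toGU : SU n F q → GU n F q) := fun a b h =>
  eq_of_smul_eq_SU fun v => by rw [← toGU_smul, h, toGU_smul]

omit hF in
theorem range_toGU : (toGU : SU n F q →* GU n F q).range = (detGU : GU n F q →* Fˣ).ker := by
  ext g
  constructor
  · rintro ⟨k, rfl⟩
    exact Units.ext k.1.2
  · intro hg
    have hd : ((g : GL (Fin n) F) : Matrix (Fin n) (Fin n) F).det = 1 :=
      congrArg Units.val (show detGU g = 1 from hg)
    exact ⟨⟨⟨_, hd⟩, g.2⟩, eq_of_smul_eq_GU fun v => rfl⟩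

theorem card_SU_mul (hn : 1 ≤ n) : (q + 1) * Nat.card (SU n F q) = Nat.card (GU n F q) := by
  have hr : (detGU : GU n F q →* Fˣ).range = (powMonoidHom (q + 1) : Fˣ →* Fˣ).ker := by
    ext a
    constructor
    · rintro ⟨g, rfl⟩
      exact Units.ext (det_norm hF g)
    · intro ha
      obtain ⟨g, hg⟩ := exists_det_eq hF hn (a := (a : F)) (congrArg Units.val ha)
      exact ⟨g, Units.ext hg⟩
  rw [← (detGU : GU n F q →* Fˣ).ker.card_mul_index, Subgroup.index_ker, hr, card_norm_one_units hF,
    ← range_toGU, Nat.card_congr (MonoidHom.ofInjective toGU_injective).toEquiv.symm, mul_comm]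

end Cfsg.Agent.Unitary
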