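import Cfsg.Agent.Lib.Unitary.Moves

/-!
Unitary transvections generate `SU_n(q)` for `(n, q) ≠ (3, 2)`; transitivity on hyperbolic pairs
(helper10).
-/

set_option autoImplicit false

namespace Cfsg.Agent.Unitary

open Matrix

variable {F : Type*} [Field F] [Fintype F] {n q : ℕ} (hF : Fintype.card F = q ^ 2)
variable {S : Finset (Fin n)} {u v w : Fin n → F}

include hF

theorem Qel_mul_Qel {w1 w2 : Fin n → F} {b1 b2 : F} (hu : herm q u u = 0)
    (h1u : herm q w1 u = 0) (h1 : b1 + b1 ^ q = -herm q w1 w1) (h2u : herm q w2 u = 0)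
    (h2 : b2 + b2 ^ q = -herm q w2 w2)
    (h12 : (b1 + b2 - herm q w2 w1) + (b1 + b2 - herm q w2 w1) ^ q = -herm q (w1 + w2) (w1 + w2)) :
    Qel hF hu h1u h1 * Qel hF hu h2u h2 =
      Qel hF hu (w := w1 + w2) (b := b1 + b2 - herm q w2 w1)
        (by rw [herm_add_left, h1u, h2u, add_zero]) h12 := by
  refine eq_of_smul_eq_SU fun x => ?_
  have hu1 : herm q u w1 = 0 := (herm_eq_zero_comm hF).1 h1u
  simp only [mul_smul, Qel_smul, herm_add_left, herm_sub_left, herm_smul_left, herm_add_right hF,
    hu, h1u, h2u, hu1]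
  module

theorem Qel_add_cond {w1 w2 : Fin n → F} {b1 b2 : F} (h1 : b1 + b1 ^ q = -herm q w1 w1)
    (h2 : b2 + b2 ^ q = -herm q w2 w2) :
    (b1 + b2 - herm q w2 w1) + (b1 + b2 - herm q w2 w1) ^ q = -herm q (w1 + w2) (w1 + w2) := by
  simp only [herm_add_left, herm_add_right hF, sub_pow_q hF, add_pow_q hF]
  rw [← herm_swap hF w2 w1]
  linear_combination h1 + h2

theorem Qel_congr {w1 w2 : Fin n → F} {b1 b2 : F} (hu : herm q u u = 0)
    (h1u : herm q w1 u = 0) (h1 : b1 + b1 ^ q = -herm q w1 w1) (h2u : herm q w2 u = 0)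
    (h2 : b2 + b2 ^ q = -herm q w2 w2) (hw : w1 = w2) (hb : b1 = b2) :
    Qel hF hu h1u h1 = Qel hF hu h2u h2 := by
  subst hw hb
  rfl

theorem Qel_inv_cond {b : F} (hwu : herm q w u = 0) (hb : b + b ^ q = -herm q w w) :
    herm q (-w) u = 0 ∧ (-b - herm q w w) + (-b - herm q w w) ^ q = -herm q (-w) (-w) := by
  refine ⟨by rw [herm_neg_left, hwu, neg_zero], ?_⟩
  rw [sub_pow_q hF, neg_pow_q hF, herm_self_fixed hF, herm_neg_left, herm_neg_right hF, neg_neg]
  linear_combination -hb

theorem Qel_inv {b : F} (hu : herm q u u = 0) (hwu : herm q w u = 0)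
    (hb : b + b ^ q = -herm q w w) :
    (Qel hF hu hwu hb)⁻¹ =
      Qel hF hu (Qel_inv_cond hF hwu hb).1 (Qel_inv_cond hF hwu hb).2 := by
  refine inv_eq_of_mul_eq_one_right (eq_of_smul_eq_SU fun x => ?_)
  have huw : herm q u w = 0 := (herm_eq_zero_comm hF).1 hwu
  simp only [mul_smul, Qel_smul, one_smul, herm_add_left, herm_sub_left, herm_smul_left,
    herm_neg_left, herm_neg_right hF, hu, hwu, huw]
  module


theorem exists_Qel_of_isotropic (huS : u ∈ supp S) (hu : herm q u u = 0) (hwS : w ∈ supp S)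
    (hw : herm q w w = 0) (hwu : herm q w u = 0) :
    ∃ (b : F) (hb : b + b ^ q = -herm q w w), Qel hF hu hwu hb ∈ tvGroup hF S := by
  obtain ⟨c, hc0, hc⟩ := exists_trace_zero_ne_zero hF
  have hb : (0 : F) + 0 ^ q = -herm q w w := by rw [hw, zero_pow_q hF, add_zero, neg_zero]
  refine ⟨0, hb, ?_⟩
  have hc' : (-c) + (-c) ^ q = 0 := by rw [neg_pow_q hF, ← neg_add, hc, neg_zero]
  have huw : herm q u w = 0 := (herm_eq_zero_comm hF).1 hwu
  set w' := c⁻¹ • w with hw'
  have hw'u : herm q w' u = 0 := by rw [hw', herm_smul_left, hwu, mul_zero]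
  have huw' : herm q u w' = 0 := by rw [hw', herm_smul_right hF, huw, mul_zero]
  have hw'w' : herm q w' w' = 0 := by
    rw [hw', herm_smul_left, herm_smul_right hF, hw, mul_zero, mul_zero]
  have huw'' : herm q (u + w') (u + w') = 0 := by
    simp only [herm_add_left, herm_add_right hF, hu, hw'u, huw', hw'w', add_zero]
  have hw'S : w' ∈ supp S := Submodule.smul_mem _ _ hwS
  have hmem := mul_mem (mul_mem (tv_mem_tvGroup hF huw'' hc (add_mem huS hw'S))
    (tv_mem_tvGroup hF hu hc' huS)) (tv_mem_tvGroup hF hw'w' hc' hw'S)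
  convert hmem using 1
  refine eq_of_smul_eq_SU fun x => ?_
  simp only [mul_smul, tv_smul, Qel_smul, herm_add_left, herm_smul_left, herm_add_right hF,
    hu, hw'u, huw', hw'w']
  simp only [hw', herm_smul_right hF, inv_pow, eq_neg_of_add_eq_zero_right hc, inv_neg]
  match_scalars <;> field_simp <;> ring

theorem exists_sum_isotropic {S : Finset (Fin n)} (h2 : 2 ≤ Sᶜ.card) {x : Fin n → F}
    (hx : x ∈ supp S) :
    x ∈ AddSubmonoid.closure {y : Fin n → F | y ∈ supp S ∧ herm q y y = 0} := by
  set C := AddSubmonoid.closure {y : Fin n → F | y ∈ supp S ∧ herm q y y = 0}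
  rw [eq_sum_eI x]
  refine sum_mem fun k _ => ?_
  by_cases hk : k ∈ S
  · rw [hx k hk, zero_smul]
    exact zero_mem C
  obtain ⟨l, hl, hlk⟩ := Finset.exists_mem_ne (by omega : 1 < Sᶜ.card) k
  rw [Finset.mem_compl] at hl
  have hone : (-1 : F) ^ q = -1 := by rw [neg_pow_q hF, one_pow]
  have : 1 < Nat.card {a : F // a ^ (q + 1) = -1} := by
    rw [card_norm_eq hF hone (neg_ne_zero.2 one_ne_zero)]
    have := q_pos hF
    omega
  have : Nontrivial {a : F // a ^ (q + 1) = -1} := Finite.one_lt_card_iff_nontrivial.1 this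
  obtain ⟨⟨a, ha⟩, ⟨a', ha'⟩, hne⟩ := exists_pair_ne {a : F // a ^ (q + 1) = -1}
  have hne' : a' - a ≠ 0 := sub_ne_zero.2 fun e => hne (Subtype.ext e.symm)
  have hiso : ∀ b r : F, b ^ (q + 1) = -1 → r • (eI k + b • eI l : Fin n → F) ∈ C := by
    intro b r hb
    refine AddSubmonoid.subset_closure ⟨Submodule.smul_mem _ _
      (add_mem (eI_mem_supp hk) (Submodule.smul_mem _ _ (eI_mem_supp hl))), ?_⟩
    simp only [herm_smul_left, herm_smul_right hF, herm_add_left, herm_add_right hF, herm_eI_eI hF,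
      if_true, if_neg hlk, if_neg hlk.symm, mul_zero, mul_one, add_zero, zero_add]
    rw [pow_succ] at hb
    linear_combination (r * r ^ q) * hb
  have e : x k • (eI k : Fin n → F) =
      (x k * a' / (a' - a)) • (eI k + a • eI l) + (-(x k * a / (a' - a))) • (eI k + a' • eI l) := by
    match_scalars <;> field_simp <;> ring
  rw [e]
  exact add_mem (hiso a _ ha) (hiso a' _ ha')

/-- The unipotent radical at `u` meets every class of `tvGroup`. -/
theorem exists_Qel_mem (hS : 4 ≤ Sᶜ.card ∨ 3 ≤ q) (huS : u ∈ supp S) (hvS : v ∈ supp S)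
    (hu : herm q u u = 0) (hv : herm q v v = 0) (huv : herm q u v = 1) (hwS : w ∈ supp S)
    (hwu : herm q w u = 0) (hwv : herm q w v = 0) :
    ∃ (b : F) (hb : b + b ^ q = -herm q w w), Qel hF hu hwu hb ∈ tvGroup hF S := by
  classical
  by_cases hq : 3 ≤ q
  · -- commutators with a torus element
    obtain ⟨⟨l, hl⟩, hl'⟩ : ∃ l : {x : F // x ^ q = x}, l.1 ≠ 0 ∧ l.1 ≠ 1 := by
      by_contra hcon
      simp only [not_exists, not_and_or, not_not] at hcon
      have : Nat.card {x : F // x ^ q = x} ≤ 2 := by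
        rw [Nat.card_eq_fintype_card, Fintype.card_subtype]
        refine (Finset.card_le_card (t := {0, 1}) fun x hx => ?_).trans Finset.card_le_two
        simpa using hcon ⟨x, (Finset.mem_filter.1 hx).2⟩
      rw [card_fixed hF] at this
      omega
    obtain ⟨t, ht, htu, htx⟩ := exists_torus hF huS hvS hu hv huv hl'.1 hl
    set w0 := (l - 1)⁻¹ • w with hw0
    have hl1 : l - 1 ≠ 0 := sub_ne_zero.2 hl'.2
    have hw0u : herm q w0 u = 0 := by rw [hw0, herm_smul_left, hwu, mul_zero]
    have hw0v : herm q w0 v = 0 := by rw [hw0, herm_smul_left, hwv, mul_zero]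
    obtain ⟨b0, hb0⟩ := exists_trace_eq hF (t := -herm q w0 w0)
      (by rw [neg_pow_q hF, herm_self_fixed hF])
    have hlw : herm q (l • w0) u = 0 := by rw [herm_smul_left, hw0u, mul_zero]
    have hlb : l ^ 2 * b0 + (l ^ 2 * b0) ^ q = -herm q (l • w0) (l • w0) := by
      rw [mul_pow, ← pow_mul, mul_comm 2 q, pow_mul, hl, herm_smul_left, herm_smul_right hF, hl]
      linear_combination l ^ 2 * hb0
    set Q0 := Qel hF hu hw0u hb0
    have hQfix : Q0 ∈ fixS S := mem_fixS.2 fun i hi => by
      rw [Qel_smul, herm_eI_left, herm_eI_left, huS i hi,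
        (show w0 i = 0 from Submodule.smul_mem _ _ hwS i hi), zero_pow_q hF]
      simp
    have hconj : t * Q0 * t⁻¹ = Qel hF hu hlw hlb := by
      refine eq_of_smul_eq_SU fun x => ?_
      have e0 : t • w0 = w0 := htx w0 hw0u hw0v
      have e1 : herm q (t⁻¹ • x) u = l * herm q x u := by
        rw [← herm_smul_SU t, smul_inv_smul, htu, herm_smul_right hF, hl]
      have e2 : herm q (t⁻¹ • x) w0 = herm q x w0 := by
        rw [← herm_smul_SU t, smul_inv_smul, e0]
      rw [mul_smul, mul_smul, Qel_smul, Qel_smul, e1, e2]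
      simp only [smul_add, smul_sub, smul_comm t, smul_inv_smul, htu, e0, herm_smul_right hF, hl]
      match_scalars <;> ring
    have hmem : t * Q0 * t⁻¹ * Q0⁻¹ ∈ tvGroup hF S := by
      have := mul_mem ht (conj_mem_tvGroup hF hQfix (inv_mem ht))
      convert this using 1
      group
    rw [hconj, Qel_inv hF, Qel_mul_Qel hF hu _ hlb _ _
      (Qel_add_cond hF hlb (Qel_inv_cond hF hw0u hb0).2)] at hmem
    have hw : l • w0 + -w0 = w := by
      rw [← sub_eq_add_neg, hw0, smul_smul, ← sub_smul, ← sub_one_mul, mul_inv_cancel₀ hl1,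
        one_smul]
    refine ⟨l ^ 2 * b0 + (-b0 - herm q w0 w0) - herm q (-w0) (l • w0), ?_, ?_⟩
    · rw [← hw]
      exact Qel_add_cond hF hlb (Qel_inv_cond hF hw0u hb0).2
    · convert hmem using 1
      exact Qel_congr hF hu _ _ _ _ hw.symm rfl
  · -- decomposition into isotropic vectors
    have h4 : 4 ≤ Sᶜ.card := hS.resolve_right hq
    obtain ⟨i, j, -, hi, hj, -, hij, -, -⟩ := exists_three (S := S) (by omega)
    obtain ⟨u0, v0, hu0S, hv0S, hu0, hv0, huv0⟩ := exists_std_pair hF hij
    have hsub : supp ({i, j}ᶜ) ≤ (supp S : Submodule F (Fin n → F)) := supp_anti (by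
      intro l hl
      simp only [Finset.mem_compl, Finset.mem_insert, Finset.mem_singleton]
      rintro (rfl | rfl) <;> contradiction)
    obtain ⟨g, hg, hgu, hgv⟩ := exists_fixGU_pair hF (hsub hu0S) (hsub hv0S) huS hvS hu0 hv0 huv0
      hu hv huv
    set T := S ∪ {i, j} with hT
    have hgs : g⁻¹ • w ∈ supp S := smul_mem_supp_GU hF (inv_mem hg) hwS
    have hzero : ∀ z : Fin n → F, z ∈ supp S → herm q z u0 = 0 → herm q z v0 = 0 →
        z i = 0 ∧ z j = 0 := by
      intro z hzS h1 h2
      have hk : ∀ k, k ∉ ({i, j}ᶜ : Finset (Fin n)) → k = i ∨ k = j := fun k hk => by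
        rwa [Finset.mem_compl, not_not, Finset.mem_insert, Finset.mem_singleton] at hk
      have hd : ∀ k, k = i ∨ k = j → z k = 0 := by
        intro k hk'
        have hek : (eI k : Fin n → F) ∈ supp ({i, j}ᶜ) := eI_mem_supp (by rwa [Finset.mem_compl, not_not, Finset.mem_insert, Finset.mem_singleton])
        have := eq_pair_combination hF hij hk (by simp) (by simp) hu0S hv0S hu0 hv0 huv0 hek
        have h3 := congrArg (fun y => herm q z y) this
        simp only [herm_eI_right hF, herm_add_right hF, herm_smul_right hF, h1, h2, mul_zero,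
          add_zero] at h3
        exact h3
      exact ⟨hd i (Or.inl rfl), hd j (Or.inr rfl)⟩
    have hgw : g⁻¹ • w ∈ supp T := by
      obtain ⟨z1, z2⟩ := hzero _ hgs
        (by rw [← herm_smul_GU g, smul_inv_smul, hgu, hwu])
        (by rw [← herm_smul_GU g, smul_inv_smul, hgv, hwv])
      intro k hk
      simp only [hT, Finset.mem_union, Finset.mem_insert, Finset.mem_singleton] at hk
      rcases hk with hk | rfl | rfl
      · exact hgs k hk
      · exact z1
      · exact z2
    have hTc : 2 ≤ Tᶜ.card := by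
      have h1 := Finset.card_union_le S ({i, j} : Finset (Fin n))
      have h2 : ({i, j} : Finset (Fin n)).card = 2 := Finset.card_pair hij
      rw [Finset.card_compl, hT]
      rw [Finset.card_compl] at h4
      omega
    have key : ∀ z ∈ AddSubmonoid.closure {y : Fin n → F | y ∈ supp T ∧ herm q y y = 0},
        g • z ∈ supp S ∧ ∃ (hzu : herm q (g • z) u = 0) (b : F)
          (hb : b + b ^ q = -herm q (g • z) (g • z)),
          Qel hF hu hzu hb ∈ tvGroup hF S := by
      intro z hz
      induction hz using AddSubmonoid.closure_induction with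
      | mem z hz =>
        have hzS : g • z ∈ supp S :=
          smul_mem_supp_GU hF hg (supp_anti Finset.subset_union_left hz.1)
        have hzu : herm q (g • z) u = 0 := by
          rw [← hgu, herm_smul_GU, herm, hermForm]
          refine Finset.sum_eq_zero fun k _ => ?_
          by_cases hk : k ∈ T
          · rw [hz.1 k hk, zero_mul]
          · rw [hu0S k (by
              simp only [hT, Finset.mem_union, not_or] at hk
              simpa using hk.2), zero_pow_q hF, mul_zero]
        exact ⟨hzS, hzu,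
          exists_Qel_of_isotropic hF huS hu hzS ((herm_smul_GU g z z).trans hz.2) hzu⟩
      | zero =>
        refine ⟨by rw [smul_zero]; exact zero_mem _, by rw [smul_zero, herm_zero_left], 0,
          by rw [smul_zero, herm_zero_left, zero_pow_q hF, add_zero, neg_zero], ?_⟩
        convert one_mem (tvGroup hF S)
        refine eq_of_smul_eq_SU fun x => ?_
        rw [Qel_smul, one_smul, smul_zero, herm_zero_right hF]
        simp
      | add a b _ _ ha hb =>
        obtain ⟨haS, hau, ba, hba, hma⟩ := ha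
        obtain ⟨hbS, hbu, bb, hbb, hmb⟩ := hb
        have hm := mul_mem hma hmb
        rw [Qel_mul_Qel hF hu hau hba hbu hbb (Qel_add_cond hF hba hbb)] at hm
        refine ⟨by rw [smul_add]; exact add_mem haS hbS,
          by rw [smul_add, herm_add_left, hau, hbu, add_zero],
          ba + bb - herm q (g • b) (g • a), ?_, ?_⟩
        · rw [smul_add]; exact Qel_add_cond hF hba hbb
        · convert hm using 1
          exact Qel_congr hF hu _ _ _ _ (smul_add g a b) rfl
    obtain ⟨-, hzu, b, hb, hm⟩ := key _ (exists_sum_isotropic hF hTc hgw)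
    refine ⟨b, by rwa [smul_inv_smul] at hb, ?_⟩
    convert hm using 1
    exact Qel_congr hF hu _ _ _ _ (smul_inv_smul g w).symm rfl

/-- Stabiliser of `u` in `tvGroup` is transitive on partners of `u`. -/
theorem exists_move_partner (hS : 4 ≤ Sᶜ.card ∨ 3 ≤ q) (huS : u ∈ supp S) (hvS : v ∈ supp S)
    (hu : herm q u u = 0) (hv : herm q v v = 0) (huv : herm q u v = 1) {v' : Fin n → F}
    (hvS' : v' ∈ supp S) (hv' : herm q v' v' = 0) (huv' : herm q u v' = 1) :
    ∃ t ∈ tvGroup hF S, t • u = u ∧ t • v = v' := by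
  set b0 := herm q v' v with hb0
  set w := v' - v - b0 • u with hwdef
  have hwu : herm q w u = 0 := by
    simp only [hwdef, herm_sub_left, herm_smul_left, hu, herm_one_swap hF huv,
      herm_one_swap hF huv']
    ring
  have hwv : herm q w v = 0 := by
    simp only [hwdef, herm_sub_left, herm_smul_left, hv, huv, ← hb0]
    ring
  obtain ⟨b, hb, hQ⟩ := exists_Qel_mem hF hS huS hvS hu hv huv
    (sub_mem (sub_mem hvS' hvS) (Submodule.smul_mem _ _ huS)) hwu hwv
  have hQv : Qel hF hu hwu hb • v = v + w + b • u := by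
    rw [Qel_smul, herm_one_swap hF huv, (herm_eq_zero_comm hF).1 hwv]
    simp
    abel
  have hQu : Qel hF hu hwu hb • u = u := by
    rw [Qel_smul, hu, (herm_eq_zero_comm hF).1 hwu]
    simp
  have hd : (b0 - b) + (b0 - b) ^ q = 0 := by
    have h2 : b0 + b0 ^ q = -herm q w w := by
      simp only [hwdef, herm_sub_left, herm_sub_right hF, herm_smul_left, herm_smul_right hF, hu,
        hv, hv', huv, huv', herm_one_swap hF huv, herm_one_swap hF huv', ← herm_swap hF v' v, ← hb0]
      rw [hb0, herm_swap hF v' v]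
      ring
    rw [sub_pow_q hF]
    linear_combination h2 - hb
  refine ⟨tv hF hu hd * Qel hF hu hwu hb, mul_mem (tv_mem_tvGroup hF hu hd huS) hQ, ?_, ?_⟩
  · rw [mul_smul, hQu, tv_smul, hu, mul_zero, zero_smul, add_zero]
  · rw [mul_smul, hQv, tv_smul, herm_add_left, herm_add_left, herm_smul_left,
      herm_one_swap hF huv, hwu, hu, hwdef]
    simp
    module

theorem exists_move_pair (h3 : 3 ≤ Sᶜ.card) (hS : 4 ≤ Sᶜ.card ∨ 3 ≤ q) {u' v' : Fin n → F}
    (huS : u ∈ supp S) (hvS : v ∈ supp S) (hu : herm q u u = 0) (hv : herm q v v = 0)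
    (huv : herm q u v = 1) (huS' : u' ∈ supp S) (hvS' : v' ∈ supp S) (hu' : herm q u' u' = 0)
    (hv' : herm q v' v' = 0) (huv' : herm q u' v' = 1) :
    ∃ t ∈ tvGroup hF S, t • u = u' ∧ t • v = v' := by
  obtain ⟨t1, ht1, h1⟩ := exists_move hF h3 huS huS' hu hu' (ne_zero_of_herm_one hF huv)
    (ne_zero_of_herm_one hF huv')
  have hS1 : t1 • v ∈ supp S := smul_mem_supp_SU hF (tvGroup_le_fixS hF ht1) hvS
  obtain ⟨t2, ht2, h2u, h2v⟩ := exists_move_partner hF hS huS' hS1 hu'
    ((herm_smul_SU t1 v v).trans hv) (by rw [← h1, herm_smul_SU, huv]) hvS' hv' huv'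
  exact ⟨t2 * t1, mul_mem ht2 ht1, by rw [mul_smul, h1, h2u], by rw [mul_smul, h2v]⟩

theorem exists_move_norm_one (h3 : 3 ≤ Sᶜ.card) (hS : 4 ≤ Sᶜ.card ∨ 3 ≤ q) {x x' : Fin n → F}
    (hxS : x ∈ supp S) (hxS' : x' ∈ supp S) (hx : herm q x x = 1) (hx' : herm q x' x' = 1) :
    ∃ t ∈ tvGroup hF S, t • x = x' := by
  obtain ⟨i, j, -, hi, hj, -, hij, -, -⟩ := exists_three h3
  obtain ⟨u0, v0, hu0S, hv0S, hu0, hv0, huv0⟩ := exists_std_pair hF hij
  have hsub : supp ({i, j}ᶜ) ≤ (supp S : Submodule F (Fin n → F)) := supp_anti (by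
    intro l hl
    simp only [Finset.mem_compl, Finset.mem_insert, Finset.mem_singleton]
    rintro (rfl | rfl) <;> contradiction)
  obtain ⟨t0, ht0⟩ := exists_trace_eq hF (t := (1 : F)) (one_pow q)
  set x0 := u0 + t0 • v0 with hx0
  have hx01 : herm q x0 x0 = 1 := by
    simp only [hx0, herm_add_left, herm_add_right hF, herm_smul_left, herm_smul_right hF, hu0, hv0,
      huv0, herm_one_swap hF huv0]
    linear_combination ht0
  have hx0S : x0 ∈ supp S := add_mem (hsub hu0S) (Submodule.smul_mem _ _ (hsub hv0S))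
  obtain ⟨g, hg, hgx⟩ := exists_fixGU_smul_eq hF hx0S hxS (by rw [hx01, hx]) (by simp [hx01])
  obtain ⟨g', hg', hgx'⟩ := exists_fixGU_smul_eq hF hx0S hxS' (by rw [hx01, hx']) (by simp [hx01])
  have m : ∀ {g : GU n F q}, g ∈ fixGU S → ∀ {z : Fin n → F}, z ∈ supp ({i, j}ᶜ) → g • z ∈ supp S :=
    fun hg _ hz => smul_mem_supp_GU hF hg (hsub hz)
  obtain ⟨t, ht, htu, htv⟩ := exists_move_pair hF h3 hS (m hg hu0S) (m hg hv0S)
    ((herm_smul_GU g u0 u0).trans hu0) ((herm_smul_GU g v0 v0).trans hv0)
    ((herm_smul_GU g u0 v0).trans huv0) (m hg' hu0S) (m hg' hv0S)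
    ((herm_smul_GU g' u0 u0).trans hu0) ((herm_smul_GU g' v0 v0).trans hv0)
    ((herm_smul_GU g' u0 v0).trans huv0)
  refine ⟨t, ht, ?_⟩
  calc t • x = t • (g • u0 + t0 • (g • v0)) := by rw [← hgx, hx0, smul_add, smul_comm g]
    _ = g' • u0 + t0 • (g' • v0) := by rw [smul_add, smul_comm t t0, htu, htv]
    _ = x' := by rw [← hgx', hx0, smul_add, smul_comm g']

theorem eq_one_of_card_le_one {g : SU n F q} (hS : Sᶜ.card ≤ 1) (hg : g ∈ fixS S) : g = 1 := by
  have hfix : ∀ i, i ∈ S → g • (eI i : Fin n → F) = eI i := mem_fixS.1 hg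
  by_cases hall : ∀ i, i ∈ S
  · refine eq_of_smul_eq_SU fun x => ?_
    rw [eq_sum_eI x, Finset.smul_sum, one_smul]
    exact Finset.sum_congr rfl fun i _ => by rw [smul_comm, hfix i (hall i)]
  obtain ⟨j, hj⟩ := not_forall.1 hall
  have hothers : ∀ i, i ≠ j → i ∈ S := fun i hi => by
    by_contra h
    exact hi (Finset.card_le_one.1 hS i (Finset.mem_compl.2 h) j (Finset.mem_compl.2 hj))
  have hgj : g • (eI j : Fin n → F) ∈ supp S := smul_mem_supp_SU hF hg (eI_mem_supp hj)
  set a := (g • (eI j : Fin n → F)) j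
  have hM : ((g : Matrix.SpecialLinearGroup (Fin n) F) : Matrix (Fin n) (Fin n) F) =
      Matrix.diagonal (Function.update 1 j a) := by
    refine Matrix.ext_of_mulVec_single fun i => ?_
    show g • (eI i : Fin n → F) = _
    funext k
    by_cases hi : i = j
    · subst hi
      by_cases hk : k = i
      · subst hk; simp [a, eI, Matrix.mulVec_diagonal]
      · simp [hgj k (hothers k hk), Matrix.mulVec_diagonal, hk]
    · rw [hfix i (hothers i hi)]
      by_cases hk : k = i
      · subst hk; simp [eI, Matrix.mulVec_diagonal, hi]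
      · simp [eI, Matrix.mulVec_diagonal, hk]
  have hdet := g.1.2
  rw [hM, Matrix.det_diagonal, Finset.prod_update_of_mem (Finset.mem_univ j)] at hdet
  simp at hdet
  refine Subtype.ext (Subtype.ext ?_)
  rw [hM, hdet]
  simp

theorem det_of_fix_compl {g : SU n F q} {β : F} (hu : herm q u u = 0) (hv : herm q v v = 0)
    (huv : herm q u v = 1) (hgu : g • u = β • u)
    (hg : ∀ x : Fin n → F, g • x = x + (herm q x v • (g • u - u) + herm q x u • (g • v - v))) :
    β * herm q (g • v) u = 1 := by
  set a := g • u - u with ha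
  set c := g • v - v with hc
  set U : Matrix (Fin n) (Fin 2) F := Matrix.of fun k => ![a k, c k] with hU
  set V : Matrix (Fin 2) (Fin n) F := Matrix.of ![fun k => v k ^ q, fun k => u k ^ q] with hV
  have hM : ((g : Matrix.SpecialLinearGroup (Fin n) F) : Matrix (Fin n) (Fin n) F) = 1 + U * V := by
    refine Matrix.ext_of_mulVec_single fun i => ?_
    refine (hg (Pi.single i 1)).trans ?_
    rw [Matrix.add_mulVec, Matrix.one_mulVec]
    congr 1
    funext k
    simp only [show (Pi.single i 1 : Fin n → F) = eI i from rfl, herm_eI_left]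
    simp [hU, hV, eI, Matrix.mul_apply, Fin.sum_univ_two, mul_comm]
  have hdet := g.1.2
  rw [hM, Matrix.det_one_add_mul_comm, Matrix.det_fin_two] at hdet
  have e : ∀ (z : Fin n → F) (y : Fin n → F), ∑ k, y k ^ q * z k = herm q z y := fun z y =>
    Finset.sum_congr rfl fun k _ => mul_comm _ _
  simp only [Matrix.add_apply, Matrix.one_apply, Matrix.mul_apply, hU, hV, Matrix.of_apply,
    Matrix.cons_val_zero, Matrix.cons_val_one, if_true, zero_ne_one, one_ne_zero, if_false,
    e] at hdet
  simp only [ha, hc, hgu, herm_sub_left, herm_smul_left, hu, huv, herm_one_swap hF huv] at hdet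
  linear_combination hdet

theorem fixS_le_tvGroup_two (h2 : Sᶜ.card = 2) : fixS S ≤ tvGroup hF S := by
  intro g hg
  obtain ⟨i, j, hij, hSeq⟩ := Finset.card_eq_two.1 h2
  have hS' : S = {i, j}ᶜ := by rw [← hSeq, compl_compl]
  have hcompl : ∀ k, k ∉ S → k = i ∨ k = j := fun k hk => by
    have : k ∈ Sᶜ := Finset.mem_compl.2 hk
    simpa [hSeq] using this
  have hi : i ∉ S := by simp [hS']
  have hj : j ∉ S := by simp [hS']
  obtain ⟨u, v, huS, hvS, hu, hv, huv⟩ := exists_std_pair hF hij
  rw [← hS'] at huS hvS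
  obtain ⟨t, ht, a, ha, htu⟩ := exists_move_point hF (smul_mem_supp_SU hF hg huS) huS
    ((herm_smul_SU g u u).trans hu) hu
    (by rw [Ne, smul_eq_zero_iff_eq]; exact ne_zero_of_herm_one hF huv)
    (ne_zero_of_herm_one hF huv)
  have hk : t * g ∈ fixS S := mul_mem (tvGroup_le_fixS hF ht) hg
  suffices t * g ∈ tvGroup hF S by simpa using mul_mem (inv_mem ht) this
  set k := t * g with hkdef
  have hku : k • u = a • u := by rw [hkdef, mul_smul, htu]
  have hdecomp : ∀ x : Fin n → F, x ∈ supp S → x = herm q x v • u + herm q x u • v :=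
    fun x hx => eq_pair_combination hF hij hcompl hi hj huS hvS hu hv huv hx
  have hform : ∀ k' : SU n F q, k' ∈ fixS S → ∀ x : Fin n → F,
      k' • x = x + (herm q x v • (k' • u - u) + herm q x u • (k' • v - v)) := by
    intro k' hk' x
    set z := x - (herm q x v • u + herm q x u • v) with hz
    have hzz : k' • z = z := by
      have hzsupp : ∀ l, l ∉ S → z l = 0 := by
        intro l hl
        have h := hdecomp (eI l) (eI_mem_supp hl)
        have h2 := congrArg (fun y => herm q x y) h
        simp only [herm_eI_right hF, herm_add_right hF, herm_smul_right hF, herm_eI_left,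
          pow_q_pow_q hF] at h2
        simp [hz, h2]
        ring
      rw [eq_sum_eI z, Finset.smul_sum]
      refine Finset.sum_congr rfl fun l _ => ?_
      by_cases hl : l ∈ S
      · rw [smul_comm, mem_fixS.1 hk' l hl]
      · rw [hzsupp l hl, zero_smul, smul_zero]
    have hx : x = z + (herm q x v • u + herm q x u • v) := by simp [hz]
    nth_rw 1 [hx]
    rw [smul_add, hzz, smul_add, smul_comm k', smul_comm k', hz]
    simp only [smul_sub]
    abel
  have hdet := det_of_fix_compl hF hu hv huv hku (hform k hk)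
  have h1 : herm q (k • v) (k • u) = 1 := by rw [herm_smul_SU, herm_one_swap hF huv]
  rw [hku, herm_smul_right hF] at h1
  have haK : a ^ q = a := by
    have h0 : herm q (k • v) u ≠ 0 := fun e => by simp [e] at h1
    exact mul_right_cancel₀ h0 (h1.trans hdet.symm)
  obtain ⟨t', ht', ht'u, -⟩ := exists_torus hF huS hvS hu hv huv ha haK
  suffices t'⁻¹ * k ∈ tvGroup hF S by simpa using mul_mem ht' this
  have hk' : t'⁻¹ * k ∈ fixS S := mul_mem (inv_mem (tvGroup_le_fixS hF ht')) hk
  set k' := t'⁻¹ * k with hk'def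
  have hk'u : k' • u = u := by
    rw [hk'def, mul_smul, hku, ← ht'u, inv_smul_smul]
  have hd := hdecomp (k' • v) (smul_mem_supp_SU hF hk' hvS)
  have h1' : herm q (k' • v) u = 1 := by
    nth_rw 1 [← hk'u]; rw [herm_smul_SU, herm_one_swap hF huv]
  rw [h1', one_smul] at hd
  set δ := herm q (k' • v) v
  have hδ : δ + δ ^ q = 0 := by
    have h := (herm_smul_SU k' v v).trans hv
    rw [hd] at h
    simp only [herm_add_left, herm_add_right hF, herm_smul_left, herm_smul_right hF, hu, hv, huv,
      herm_one_swap hF huv] at h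
    linear_combination h
  have : k' = tv hF hu hδ := eq_of_smul_eq_SU fun x => by
    rw [hform k' hk' x, hk'u, hd, tv_smul, sub_self, smul_zero, zero_add]
    module
  rw [this]
  exact tv_mem_tvGroup hF hu hδ huS

/-- Transvections generate the pointwise stabiliser of `S`, outside `(3, 2)`. -/
theorem fixS_le_tvGroup (h32 : ¬ (Sᶜ.card = 3 ∧ q = 2)) : fixS S ≤ tvGroup hF S := by
  induction hn : Sᶜ.card using Nat.strong_induction_on generalizing S with
  | _ k ih =>
    intro g hg
    rcases Nat.lt_or_ge k 2 with hk | hk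
    · rw [eq_one_of_card_le_one hF (by omega : Sᶜ.card ≤ 1) hg]
      exact one_mem _
    rcases Nat.eq_or_lt_of_le hk with hk2 | hk3
    · exact fixS_le_tvGroup_two hF (hn.trans hk2.symm) hg
    have h3 : 3 ≤ Sᶜ.card := by omega
    have hq := two_le_q hF
    have hS : 4 ≤ Sᶜ.card ∨ 3 ≤ q := by omega
    by_cases h4 : k = 4
    · -- descend by a hyperbolic pair
      obtain ⟨i, j, -, hi, hj, -, hij, -, -⟩ := exists_three h3
      obtain ⟨u0, v0, hu0S, hv0S, hu0, hv0, huv0⟩ := exists_std_pair hF hij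
      have hsub : supp ({i, j}ᶜ) ≤ (supp S : Submodule F (Fin n → F)) := supp_anti (by
        intro l hl
        simp only [Finset.mem_compl, Finset.mem_insert, Finset.mem_singleton]
        rintro (rfl | rfl) <;> contradiction)
      obtain ⟨t, ht, htu, htv⟩ := exists_move_pair hF h3 hS
        (smul_mem_supp_SU hF hg (hsub hu0S)) (smul_mem_supp_SU hF hg (hsub hv0S))
        ((herm_smul_SU g u0 u0).trans hu0) ((herm_smul_SU g v0 v0).trans hv0)
        ((herm_smul_SU g u0 v0).trans huv0) (hsub hu0S) (hsub hv0S) hu0 hv0 huv0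
      have htg : ∀ l, l = i ∨ l = j → (t * g) • (eI l : Fin n → F) = eI l := by
        intro l hl
        have hel : (eI l : Fin n → F) ∈ supp ({i, j}ᶜ) := eI_mem_supp (by rwa [Finset.mem_compl, not_not, Finset.mem_insert, Finset.mem_singleton])
        rw [eq_pair_combination hF hij (fun k hk => by rwa [Finset.mem_compl, not_not, Finset.mem_insert, Finset.mem_singleton] at hk) (by simp) (by simp) hu0S
          hv0S hu0 hv0 huv0 hel, smul_add, smul_comm (t * g), smul_comm (t * g), mul_smul, htu,
          mul_smul, htv]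
      have hmem : t * g ∈ fixS (insert i (insert j S)) := mem_fixS.2 fun l hl => by
        rcases Finset.mem_insert.1 hl with rfl | hl
        · exact htg l (Or.inl rfl)
        rcases Finset.mem_insert.1 hl with rfl | hl
        · exact htg l (Or.inr rfl)
        · rw [mul_smul, mem_fixS.1 hg l hl, mem_fixS.1 (tvGroup_le_fixS hF ht) l hl]
      have hc : (insert i (insert j S))ᶜ.card = k - 2 := by
        rw [Finset.card_compl, Finset.card_insert_of_notMem (by simp [hij, hi]),
          Finset.card_insert_of_notMem hj]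
        rw [Finset.card_compl] at hn
        omega
      have := tvGroup_anti hF ((Finset.subset_insert _ _).trans (Finset.subset_insert _ _))
        (ih _ (by omega) (S := insert i (insert j S)) (by omega) hc hmem)
      simpa using mul_mem (inv_mem ht) this
    · -- descend by a vector of norm one
      obtain ⟨j, hj⟩ : ∃ j, j ∉ S := by
        obtain ⟨j, hj⟩ := Finset.card_pos.1 (by omega : 0 < Sᶜ.card)
        exact ⟨j, Finset.mem_compl.1 hj⟩
      have h11 : herm q (eI j : Fin n → F) (eI j) = 1 := by rw [herm_eI_eI hF, if_pos rfl]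
      obtain ⟨t, ht, htj⟩ := exists_move_norm_one hF h3 hS
        (smul_mem_supp_SU hF hg (eI_mem_supp hj)) (eI_mem_supp hj)
        ((herm_smul_SU g _ _).trans h11) h11
      have hmem : t * g ∈ fixS (insert j S) := mem_fixS.2 fun l hl => by
        rcases Finset.mem_insert.1 hl with rfl | hl
        · rw [mul_smul, htj]
        · rw [mul_smul, mem_fixS.1 hg l hl, mem_fixS.1 (tvGroup_le_fixS hF ht) l hl]
      have hc : (insert j S)ᶜ.card = k - 1 := by
        rw [Finset.card_compl, Finset.card_insert_of_notMem hj]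
        rw [Finset.card_compl] at hn
        omega
      have := tvGroup_anti hF (Finset.subset_insert _ _)
        (ih _ (by omega) (S := insert j S) (by omega) hc hmem)
      simpa using mul_mem (inv_mem ht) this

theorem tvGroup_empty (h32 : ¬ (n = 3 ∧ q = 2)) : tvGroup hF (∅ : Finset (Fin n)) = ⊤ := by
  rw [eq_top_iff]
  intro g _
  exact fixS_le_tvGroup hF (by simpa using h32) (mem_fixS.2 (by simp))

theorem closure_transvections (h32 : ¬ (n = 3 ∧ q = 2)) :
    Subgroup.closure {A : SU n F q | ∃ (v : Fin n → F) (c : F), herm q v v = 0 ∧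
      ((A : Matrix.SpecialLinearGroup (Fin n) F) : Matrix (Fin n) (Fin n) F) =
        unitaryTransvection n q v c} = ⊤ := by
  rw [eq_top_iff, ← tvGroup_empty hF h32, tvGroup]
  refine Subgroup.closure_mono ?_
  rintro _ ⟨u, c, hu, hc, -, rfl⟩
  exact ⟨u, c, hu, coe_tv hF hu hc⟩

end Cfsg.Agent.Unitary
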