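import Cfsg.Agent.Lib.Unitary.Count
import Mathlib.GroupTheory.SpecificGroups.Cyclic

/-!
The centre of `GU_n(q)` and the cyclic quotient of `GU_n(q)` by `SU_n(q)` and the centre
(helper10).
-/

set_option autoImplicit false

namespace Cfsg.Agent.Unitary

open Matrix

variable {F : Type*} [Field F] [Fintype F] {n q : ℕ} (hF : Fintype.card F = q ^ 2)

include hF

theorem exists_scalar_GU {r : F} (hr : r ^ (q + 1) = 1) :
    ∃ g : GU n F q, (∀ x : Fin n → F, g • x = r • x) ∧ (detGU g : F) = r ^ n := by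
  have hact : ∀ x : Fin n → F, Matrix.diagonal (fun _ : Fin n => r) *ᵥ x = r • x := fun x => by
    funext k; simp [Matrix.mulVec_diagonal]
  refine ⟨mkGU hF (Matrix.diagonal fun _ => r) fun x y => ?_, fun x => by rw [mkGU_smul, hact], ?_⟩
  · rw [hact, hact, herm_smul_left, herm_smul_right hF, ← mul_assoc, ← pow_succ', hr, one_mul]
  · show (Matrix.diagonal fun _ : Fin n => r).det = r ^ n
    simp

omit hF in
theorem scalar_mem_center_GU {g : GU n F q} {r : F} (hg : ∀ x : Fin n → F, g • x = r • x) :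
    g ∈ Subgroup.center (GU n F q) :=
  Subgroup.mem_center_iff.2 fun k => eq_of_smul_eq_GU fun x => by
    rw [mul_smul, mul_smul, hg, hg, smul_comm k]

omit hF in
theorem det_of_smul_GU {g : GU n F q} {r : F} (hg : ∀ x : Fin n → F, g • x = r • x) :
    (detGU g : F) = r ^ n := by
  have hM : ((g : GL (Fin n) F) : Matrix (Fin n) (Fin n) F) = Matrix.diagonal fun _ => r :=
    Matrix.ext_of_mulVec_single fun i => by
      refine (hg (Pi.single i 1)).trans ?_
      funext k
      simp [Matrix.mulVec_diagonal]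
  rw [coe_detGU, hM]
  simp

theorem mem_center_GU_iff {g : GU n F q} :
    g ∈ Subgroup.center (GU n F q) ↔ ∃ r : F, ∀ x : Fin n → F, g • x = r • x := by
  classical
  refine ⟨fun hg => ?_, fun ⟨r, hr⟩ => scalar_mem_center_GU hr⟩
  obtain ⟨a, ha, ha1⟩ : ∃ a : F, a ^ (q + 1) = 1 ∧ a ≠ 1 := by
    by_contra hcon
    push Not at hcon
    have h := card_norm_eq_one hF
    haveI : Subsingleton {x : F // x ^ (q + 1) = 1} :=
      ⟨fun x y => Subtype.ext ((hcon x.1 x.2).trans (hcon y.1 y.2).symm)⟩
    haveI : Nonempty {x : F // x ^ (q + 1) = 1} := ⟨⟨1, one_pow _⟩⟩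
    rw [Nat.card_unique] at h
    have := two_le_q hF
    omega
  have hcol : ∀ i j, i ≠ j → (g • (eI j : Fin n → F)) i = 0 := by
    intro i j hij
    have hM : ∀ x : Fin n → F, Matrix.diagonal (Function.update 1 i a) *ᵥ x =
        Function.update x i (a * x i) := fun x => by
      funext k
      rw [Matrix.mulVec_diagonal]
      by_cases hk : k = i
      · subst hk; simp
      · simp [hk]
    let D := mkGU hF (Matrix.diagonal (Function.update 1 i a)) fun x y => by
      rw [hM, hM, herm, herm, hermForm, hermForm]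
      refine Finset.sum_congr rfl fun k _ => ?_
      by_cases hk : k = i
      · subst hk
        rw [Function.update_self, Function.update_self, mul_pow]
        linear_combination (x k * y k ^ q) * ha
      · simp [hk]
    have h := congrArg (fun k : GU n F q => (k • (eI j : Fin n → F)) i)
      (Subgroup.mem_center_iff.1 hg D)
    simp only [mul_smul] at h
    have hDj : D • (eI j : Fin n → F) = eI j := by
      rw [mkGU_smul, hM]
      simp [eI, hij]
    rw [hDj, mkGU_smul, hM, Function.update_self] at h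
    exact (mul_eq_zero.1 (show (a - 1) * (g • (eI j : Fin n → F)) i = 0 by
      linear_combination h)).resolve_left (sub_ne_zero.2 ha1)
  have hperm : ∀ i j, (g • (eI i : Fin n → F)) i = (g • (eI j : Fin n → F)) j := by
    intro i j
    set σ := Equiv.swap i j
    obtain ⟨P, hP⟩ := exists_GU_of_linearEquiv hF (LinearEquiv.funCongrLeft F F σ) (q := q)
      (fun x y => by
        rw [herm, herm, hermForm, hermForm]
        exact Fintype.sum_equiv σ _ _ fun k => rfl)
    have h := congrArg (fun k : GU n F q => (k • (eI j : Fin n → F)) i)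
      (Subgroup.mem_center_iff.1 hg P)
    simp only [mul_smul] at h
    rw [hP, hP] at h
    have hPj : (LinearEquiv.funCongrLeft F F σ) (eI j : Fin n → F) = eI i := by
      funext k
      simp only [LinearEquiv.funCongrLeft_apply, LinearMap.funLeft_apply, eI, Pi.single_apply,
        σ, Equiv.swap_apply_eq_iff, Equiv.swap_apply_right]
    rw [hPj] at h
    simp only [LinearEquiv.funCongrLeft_apply, LinearMap.funLeft_apply, σ,
      Equiv.swap_apply_left] at h
    exact h.symm
  rcases Nat.eq_zero_or_pos n with rfl | hn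
  · exact ⟨1, fun x => Subsingleton.elim _ _⟩
  · refine ⟨(g • (eI ⟨0, hn⟩ : Fin n → F)) ⟨0, hn⟩, fun x => ?_⟩
    have hall : ∀ j, g • (eI j : Fin n → F) = (g • (eI ⟨0, hn⟩ : Fin n → F)) ⟨0, hn⟩ • eI j := by
      intro j
      funext k
      by_cases hk : k = j
      · subst hk
        rw [hperm ⟨0, hn⟩ k]
        simp [eI]
      · rw [hcol k j hk]
        simp [eI, hk]
    conv_lhs => rw [eq_sum_eI x, Finset.smul_sum]
    conv_rhs => rw [eq_sum_eI x, Finset.smul_sum]
    exact Finset.sum_congr rfl fun j _ => by rw [smul_comm, hall j, smul_comm]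

theorem norm_of_scalar_GU (hn : 1 ≤ n) {g : GU n F q} {r : F}
    (hg : ∀ x : Fin n → F, g • x = r • x) : r ^ (q + 1) = 1 := by
  have := herm_smul_GU g (eI ⟨0, hn⟩ : Fin n → F) (eI ⟨0, hn⟩)
  rw [hg, herm_smul_left, herm_smul_right hF, herm_eI_eI hF, if_pos rfl, mul_one] at this
  rw [pow_succ']
  exact this

/-- `PGU_n(q) / PSU_n(q)` is cyclic of order `gcd(n, q + 1)`. -/
theorem exists_outer_hom (hn : 1 ≤ n) :
    ∃ φ : GU n F q →* Multiplicative (ZMod (Nat.gcd n (q + 1))), Function.Surjective φ ∧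
      φ.ker = (detGU : GU n F q →* Fˣ).ker ⊔ Subgroup.center (GU n F q) := by
  classical
  set d := Nat.gcd n (q + 1) with hd
  obtain ⟨n', hn'⟩ := Nat.gcd_dvd_left n (q + 1)
  obtain ⟨k, hk⟩ := Nat.gcd_dvd_right n (q + 1)
  rw [← hd] at hn' hk
  have hd0 : 0 < d := Nat.gcd_pos_of_pos_right _ (by omega)
  haveI : NeZero d := ⟨hd0.ne'⟩
  have hk0 : 0 < k := Nat.pos_of_ne_zero fun e => by rw [e, mul_zero] at hk; omega
  obtain ⟨z, hz⟩ := IsCyclic.exists_generator (α := Fˣ)
  have hoz : orderOf z = d * k * (q - 1) := by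
    rw [orderOf_eq_card_of_forall_mem_zpowers hz, Nat.card_units, Nat.card_eq_fintype_card, hF,
      ← hk, ← Nat.sq_sub_sq, one_pow]
  have hcardR : Nat.card (powMonoidHom d : Fˣ →* Fˣ).ker = d := by
    rw [IsCyclic.card_powMonoidHom_ker, Nat.card_units, Nat.card_eq_fintype_card, hF]
    exact Nat.gcd_eq_right ((Nat.gcd_dvd_right n (q + 1)).trans
      ⟨q - 1, by rw [← Nat.sq_sub_sq, one_pow]⟩)
  let e : (powMonoidHom d : Fˣ →* Fˣ).ker ≃* Multiplicative (ZMod d) :=
    mulEquivOfCyclicCardEq (by rw [hcardR]; simp)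
  let ψ : GU n F q →* (powMonoidHom d : Fˣ →* Fˣ).ker :=
    ((powMonoidHom k).comp detGU).codRestrict _ fun g => by
      show (detGU g ^ k) ^ d = 1
      rw [← pow_mul, mul_comm, ← hk]
      exact Units.ext (det_norm hF g)
  refine ⟨e.toMonoidHom.comp ψ, e.surjective.comp ?_, ?_⟩
  · rintro ⟨a, ha⟩
    obtain ⟨m, rfl⟩ := mem_powers_iff_mem_zpowers.2 (hz a)
    have h1 : d * k * (q - 1) ∣ m * d := by
      rw [← hoz, orderOf_dvd_iff_pow_eq_one, pow_mul]
      exact ha
    obtain ⟨t, ht⟩ := h1
    have hm : m = k * (q - 1) * t := Nat.eq_of_mul_eq_mul_left hd0 (by rw [mul_comm d m, ht]; ring)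
    obtain ⟨g, hg⟩ := exists_det_eq hF (n := n) hn (a := ((z ^ ((q - 1) * t) : Fˣ) : F)) (by
      rw [← Units.val_pow_eq_pow_val, ← pow_mul, hk]
      rw [show (q - 1) * t * (d * k) = (d * k * (q - 1)) * t by ring, pow_mul, ← hoz,
        pow_orderOf_eq_one, one_pow, Units.val_one])
    refine ⟨g, Subtype.ext ?_⟩
    show detGU g ^ k = z ^ m
    rw [Units.ext hg, ← pow_mul, hm]
    ring_nf
  · rw [show (e.toMonoidHom.comp ψ).ker = ψ.ker from by ext; simp [MonoidHom.mem_ker]]
    refine le_antisymm ?_ (sup_le ?_ ?_)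
    · intro g hg
      have hg' : detGU g ^ k = 1 := congrArg Subtype.val hg
      obtain ⟨m, hm⟩ := mem_powers_iff_mem_zpowers.2 (hz (detGU g))
      change z ^ m = detGU g at hm
      rw [← hm, ← pow_mul, ← orderOf_dvd_iff_pow_eq_one, hoz] at hg'
      obtain ⟨t, ht⟩ := hg'
      have hm' : m = d * (q - 1) * t := Nat.eq_of_mul_eq_mul_left hk0 (by rw [mul_comm k m, ht]; ring)
      set w : Fˣ := z ^ ((q - 1) * t) with hw
      have hwq : w ^ (q + 1) = 1 := by
        rw [hw, ← pow_mul, hk, show (q - 1) * t * (d * k) = (d * k * (q - 1)) * t by ring,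
          pow_mul, ← hoz, pow_orderOf_eq_one, one_pow]
      set r : Fˣ := w ^ Nat.gcdA n (q + 1)
      have hrq : r ^ (q + 1) = 1 := by
        rw [← _root_.zpow_natCast, ← _root_.zpow_mul, mul_comm, _root_.zpow_mul, _root_.zpow_natCast, hwq, _root_.one_zpow]
      have hrn : r ^ n = detGU g := by
        rw [← hm, hm', show d * (q - 1) * t = (q - 1) * t * d by ring, pow_mul, ← hw,
          ← _root_.zpow_natCast w d, hd, Nat.gcd_eq_gcd_ab, _root_.zpow_add, _root_.zpow_mul w ((q + 1 : ℕ) : ℤ),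
          _root_.zpow_natCast w (q + 1), hwq, _root_.one_zpow, mul_one, mul_comm, _root_.zpow_mul, _root_.zpow_natCast]
      obtain ⟨s, hs, hsd⟩ := exists_scalar_GU hF (n := n) (r := (r : F)) (by
        rw [← Units.val_pow_eq_pow_val, hrq, Units.val_one])
      have hsd' : detGU s = detGU g := Units.ext (by rw [hsd, ← hrn, Units.val_pow_eq_pow_val])
      rw [show g = g * s⁻¹ * s by group]
      refine Subgroup.mul_mem_sup ?_ (scalar_mem_center_GU hs)
      rw [MonoidHom.mem_ker, map_mul, map_inv, hsd', mul_inv_cancel]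
    · intro g hg
      refine Subtype.ext ?_
      show detGU g ^ k = 1
      rw [MonoidHom.mem_ker.1 hg, one_pow]
    · intro g hg
      obtain ⟨r, hr⟩ := (mem_center_GU_iff hF).1 hg
      refine Subtype.ext (Units.ext ?_)
      show ((detGU g ^ k : Fˣ) : F) = 1
      rw [Units.val_pow_eq_pow_val, det_of_smul_GU hr, ← pow_mul, hn',
        show d * n' * k = (d * k) * n' by ring, ← hk, pow_mul, norm_of_scalar_GU hF hn hr, one_pow]

end Cfsg.Agent.Unitary
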