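import Mathlib.FieldTheory.Finite.Basic
import Mathlib.GroupTheory.SpecificGroups.Cyclic
import Mathlib.Algebra.CharP.Two
import Mathlib.Tactic

/-!
Arithmetic of a field with `q^2` elements under `x ↦ x^q` (helper10).
-/

set_option autoImplicit false

namespace Cfsg.Agent.Unitary

variable {F : Type*} [Field F] [Fintype F] {q : ℕ} (hF : Fintype.card F = q ^ 2)

include hF

theorem two_le_q : 2 ≤ q := by
  have h := Fintype.one_lt_card (α := F)
  rw [hF] at h
  by_contra hq
  interval_cases q <;> simp at h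

theorem q_pos : 0 < q := by have := two_le_q hF; omega

theorem exists_prime_pow : ∃ p k : ℕ, p.Prime ∧ 0 < k ∧ CharP F p ∧ q = p ^ k := by
  obtain ⟨p, hp⟩ := CharP.exists F
  obtain ⟨n, hpp, hn⟩ := FiniteField.card F p
  have hq : q ∣ p ^ (n : ℕ) := hn ▸ hF ▸ dvd_pow_self q two_ne_zero
  obtain ⟨k, -, hk⟩ := (Nat.dvd_prime_pow hpp).1 hq
  refine ⟨p, k, hpp, ?_, hp, hk⟩
  rcases Nat.eq_zero_or_pos k with rfl | h
  · have := two_le_q hF
    simp [hk] at this
  · exact h

theorem add_pow_q (a b : F) : (a + b) ^ q = a ^ q + b ^ q := by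
  obtain ⟨p, k, hp, -, hc, rfl⟩ := exists_prime_pow hF
  haveI := hc
  haveI := Fact.mk hp
  exact add_pow_char_pow a b p k

theorem sum_pow_q {ι : Type*} (s : Finset ι) (f : ι → F) :
    (∑ i ∈ s, f i) ^ q = ∑ i ∈ s, f i ^ q :=
  map_sum ({ toFun := (· ^ q), map_zero' := zero_pow (q_pos hF).ne', map_add' := add_pow_q hF } :
    F →+ F) f s

/-- The involutive automorphism `x ↦ x^q`. -/
def conjHom : F →+* F where
  toFun x := x ^ q
  map_one' := one_pow q
  map_mul' a b := mul_pow a b q
  map_zero' := zero_pow (q_pos hF).ne'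
  map_add' := add_pow_q hF

theorem conjHom_apply (x : F) : conjHom hF x = x ^ q := rfl

theorem neg_pow_q (a : F) : (-a) ^ q = -(a ^ q) := map_neg (conjHom hF) a

theorem sub_pow_q (a b : F) : (a - b) ^ q = a ^ q - b ^ q := map_sub (conjHom hF) a b

theorem zero_pow_q : (0 : F) ^ q = 0 := zero_pow (q_pos hF).ne'

theorem pow_q_pow_q (x : F) : (x ^ q) ^ q = x := by
  rw [← pow_mul, ← sq, ← hF, FiniteField.pow_card]

theorem pow_q_eq_zero_iff {x : F} : x ^ q = 0 ↔ x = 0 := pow_eq_zero_iff (q_pos hF).ne'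

theorem pow_q_injective : Function.Injective fun x : F => x ^ q := (conjHom hF).injective

theorem pow_q_sub_one {x : F} (hx : x ≠ 0) : x ^ (q - 1) = x ^ q / x := by
  rw [eq_div_iff hx, ← pow_succ, Nat.sub_add_cancel (q_pos hF)]

/-- Roots of a polynomial map bound: the elements killed by `x ↦ x + x^q` number at most `q`. -/
theorem card_trace_ker_le : Nat.card {x : F // x + x ^ q = 0} ≤ q := by
  classical
  have hq := two_le_q hF
  let P : Polynomial F := Polynomial.X ^ q + Polynomial.X
  have hdeg : P.natDegree = q := by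
    rw [Polynomial.natDegree_add_eq_left_of_natDegree_lt] <;>
      simp [Polynomial.natDegree_X_pow]; omega
  have hP : P ≠ 0 := fun e => by simp [e] at hdeg; omega
  refine (Nat.card_eq_fintype_card.trans_le ?_).trans hdeg.le
  rw [Fintype.card_subtype]
  refine (Finset.card_le_card (t := P.roots.toFinset) fun x hx => ?_).trans
    ((Multiset.toFinset_card_le _).trans P.card_roots')
  rw [Multiset.mem_toFinset, Polynomial.mem_roots hP]
  simpa [P, add_comm] using (Finset.mem_filter.1 hx).2

theorem card_fixed_le : Nat.card {x : F // x ^ q = x} ≤ q := by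
  classical
  have hq := two_le_q hF
  let P : Polynomial F := Polynomial.X ^ q - Polynomial.X
  have hdeg : P.natDegree = q := FiniteField.X_pow_card_sub_X_natDegree_eq F (by omega)
  have hP : P ≠ 0 := fun e => by simp [e] at hdeg; omega
  refine (Nat.card_eq_fintype_card.trans_le ?_).trans hdeg.le
  rw [Fintype.card_subtype]
  refine (Finset.card_le_card (t := P.roots.toFinset) fun x hx => ?_).trans
    ((Multiset.toFinset_card_le _).trans P.card_roots')
  rw [Multiset.mem_toFinset, Polynomial.mem_roots hP]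
  simpa [P, sub_eq_zero] using (Finset.mem_filter.1 hx).2

/-- The relative trace as an additive map. -/
def trHom : F →+ F where
  toFun x := x + x ^ q
  map_zero' := by simp [zero_pow_q hF]
  map_add' a b := by rw [add_pow_q hF]; ring

theorem range_trHom_le (t : (trHom hF).range) : (t : F) ^ q = t := by
  obtain ⟨x, hx⟩ := t.2
  rw [← hx]
  show (x + x ^ q) ^ q = x + x ^ q
  rw [add_pow_q hF, pow_q_pow_q hF, add_comm]

theorem trace_counts :
    Nat.card (trHom hF).ker = q ∧ Nat.card (trHom hF).range = q := by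
  have h1 : Nat.card (trHom hF).ker ≤ q := card_trace_ker_le hF
  have h2 : Nat.card (trHom hF).range ≤ q :=
    le_trans (Nat.card_le_card_of_injective
      (fun t : (trHom hF).range => (⟨t.1, range_trHom_le hF t⟩ : {x : F // x ^ q = x}))
      (fun a b h => Subtype.ext (congrArg (fun z : {x : F // x ^ q = x} => z.1) h))) (card_fixed_le hF)
  have h3 : Nat.card (trHom hF).ker * Nat.card (trHom hF).range = q * q := by
    rw [← AddSubgroup.index_ker, AddSubgroup.card_mul_index, Nat.card_eq_fintype_card, hF, sq]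
  have hq := q_pos hF
  constructor <;> nlinarith [Nat.zero_le (Nat.card (trHom hF).ker),
    Nat.zero_le (Nat.card (trHom hF).range)]

theorem card_trace_ker : Nat.card {x : F // x + x ^ q = 0} = q := (trace_counts hF).1

theorem card_fixed : Nat.card {x : F // x ^ q = x} = q := by
  refine le_antisymm (card_fixed_le hF) ?_
  conv_lhs => rw [← (trace_counts hF).2]
  exact Nat.card_le_card_of_injective
    (fun t : (trHom hF).range => (⟨t.1, range_trHom_le hF t⟩ : {x : F // x ^ q = x}))
    (fun a b h => Subtype.ext (congrArg (fun z : {x : F // x ^ q = x} => z.1) h))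

theorem exists_trace_eq {t : F} (ht : t ^ q = t) : ∃ x : F, x + x ^ q = t := by
  have hinj : Function.Injective
      (fun t : (trHom hF).range => (⟨t.1, range_trHom_le hF t⟩ : {x : F // x ^ q = x})) :=
    fun a b h => Subtype.ext (congrArg (fun z : {x : F // x ^ q = x} => z.1) h)
  obtain ⟨⟨s, x, hx⟩, hs⟩ := (Function.Injective.bijective_of_nat_card_le hinj
    (by rw [card_fixed hF, (trace_counts hF).2])).2 ⟨t, ht⟩
  exact ⟨x, hx.trans (congrArg Subtype.val hs)⟩

/-- A non-zero element of trace zero. -/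
theorem exists_trace_zero_ne_zero : ∃ c : F, c ≠ 0 ∧ c + c ^ q = 0 := by
  have : 1 < Nat.card {x : F // x + x ^ q = 0} := by rw [card_trace_ker hF]; exact two_le_q hF
  have : Nontrivial {x : F // x + x ^ q = 0} := Finite.one_lt_card_iff_nontrivial.1 this
  obtain ⟨⟨c, hc⟩, hne⟩ := exists_ne (⟨0, by simp [zero_pow_q hF]⟩ : {x : F // x + x ^ q = 0})
  exact ⟨c, fun e => hne (Subtype.ext e), hc⟩

/-- Every element of trace zero is `δ - δ^q`. -/
theorem exists_sub_pow_eq {c : F} (hc : c + c ^ q = 0) : ∃ δ : F, δ - δ ^ q = c := by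
  obtain ⟨θ, hθ, hθ'⟩ := exists_trace_zero_ne_zero hF
  have h1 : θ ^ q = -θ := eq_neg_of_add_eq_zero_right hθ'
  have h2 : c ^ q = -c := eq_neg_of_add_eq_zero_right hc
  obtain ⟨x, hx⟩ := exists_trace_eq hF (t := c / θ) (by rw [div_pow, h1, h2, neg_div_neg_eq])
  refine ⟨θ * x, ?_⟩
  rw [mul_pow, h1, neg_mul, sub_neg_eq_add, ← mul_add, hx, mul_div_cancel₀ c hθ]

/-! ### Norms -/

theorem norm_fixed (x : F) : (x ^ (q + 1)) ^ q = x ^ (q + 1) := by
  rw [pow_succ, mul_pow, pow_q_pow_q hF, mul_comm]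

theorem card_norm_one_units :
    Nat.card (powMonoidHom (q + 1) : Fˣ →* Fˣ).ker = q + 1 := by
  rw [IsCyclic.card_powMonoidHom_ker, Nat.card_units, Nat.card_eq_fintype_card, hF]
  refine Nat.gcd_eq_right ?_
  exact ⟨q - 1, by rw [← Nat.sq_sub_sq, one_pow]⟩

theorem card_norm_eq_one : Nat.card {x : F // x ^ (q + 1) = 1} = q + 1 := by
  conv_rhs => rw [← card_norm_one_units hF]
  exact Nat.card_congr
    { toFun := fun x => ⟨Units.mk0 x.1 (fun e => by simpa [e] using x.2), Units.ext x.2⟩
      invFun := fun u => ⟨(u.1 : F), by simpa using congrArg Units.val u.2⟩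
      left_inv := fun _ => rfl
      right_inv := fun u => Subtype.ext (Units.ext rfl) }

theorem exists_norm_eq {t : F} (ht : t ^ q = t) : ∃ a : F, a ^ (q + 1) = t := by
  by_cases h0 : t = 0
  · exact ⟨0, by simp [h0]⟩
  set f : Fˣ →* Fˣ := powMonoidHom (q + 1)
  set k : Fˣ →* Fˣ := powMonoidHom (q - 1)
  have hq := two_le_q hF
  have hsq : q ^ 2 - 1 = (q + 1) * (q - 1) := by rw [← Nat.sq_sub_sq, one_pow]
  have hle : f.range ≤ k.ker := by
    rintro _ ⟨a, rfl⟩
    rw [MonoidHom.mem_ker]
    show (a ^ (q + 1)) ^ (q - 1) = 1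
    rw [← pow_mul, ← hsq, ← hF, ← Nat.card_eq_fintype_card, ← Nat.card_units, pow_card_eq_one']
  have hk : Nat.card k.ker = q - 1 := by
    rw [IsCyclic.card_powMonoidHom_ker, Nat.card_units, Nat.card_eq_fintype_card, hF]
    exact Nat.gcd_eq_right ⟨q + 1, by rw [hsq, mul_comm]⟩
  have hr : Nat.card f.range = q - 1 := by
    rw [← Subgroup.index_ker]
    have := f.ker.card_mul_index
    rw [card_norm_one_units hF, Nat.card_units, Nat.card_eq_fintype_card, hF, hsq] at this
    exact Nat.eq_of_mul_eq_mul_left (by omega) this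
  have heq : f.range = k.ker := Subgroup.eq_of_le_of_card_ge hle (by rw [hk, hr])
  have htk : Units.mk0 t h0 ∈ k.ker := by
    rw [MonoidHom.mem_ker]
    refine Units.ext ?_
    show t ^ (q - 1) = 1
    rw [pow_q_sub_one hF h0, ht, div_self h0]
  rw [← heq] at htk
  obtain ⟨a, ha⟩ := htk
  exact ⟨a, congrArg Units.val ha⟩

theorem card_norm_eq {t : F} (ht : t ^ q = t) (h0 : t ≠ 0) :
    Nat.card {x : F // x ^ (q + 1) = t} = q + 1 := by
  obtain ⟨a, ha⟩ := exists_norm_eq hF ht
  have ha0 : a ≠ 0 := fun e => h0 (by simp [← ha, e])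
  conv_rhs => rw [← card_norm_eq_one hF]
  exact Nat.card_congr
    { toFun := fun x => ⟨x.1 / a, by rw [div_pow, x.2, ha, div_self h0]⟩
      invFun := fun x => ⟨x.1 * a, by rw [mul_pow, x.2, ha, one_mul]⟩
      left_inv := fun x => Subtype.ext (div_mul_cancel₀ x.1 ha0)
      right_inv := fun x => Subtype.ext (mul_div_cancel_right₀ x.1 ha0) }

end Cfsg.Agent.Unitary
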