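import Cfsg.Prelude.Def_ClassicalGeometry
import Cfsg.Prelude.Def_LieClassical
import Cfsg.Agent.Lib.Unitary.Field
import Cfsg.Agent.Lib.Forms.Witt

/-!
The Hermitian form `hermForm n F q`, its isometry groups, and the unipotent elements
`Qel u w b` attached to an isotropic vector `u` (helper10).
-/

set_option autoImplicit false

namespace Cfsg.Agent.Unitary

open Matrix

variable {F : Type*} [Field F] {n q : ℕ}

/-- `h x y = Σ xᵢ yᵢ^q`. -/
abbrev herm (q : ℕ) (x y : Fin n → F) : F := hermForm n F q x y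

theorem herm_add_left (x x' y : Fin n → F) : herm q (x + x') y = herm q x y + herm q x' y := by
  simp [hermForm, add_mul, Finset.sum_add_distrib]

theorem herm_smul_left (a : F) (x y : Fin n → F) : herm q (a • x) y = a * herm q x y := by
  simp [hermForm, Finset.mul_sum, mul_assoc]

theorem herm_sub_left (x x' y : Fin n → F) : herm q (x - x') y = herm q x y - herm q x' y := by
  simp [hermForm, sub_mul, Finset.sum_sub_distrib]

theorem herm_neg_left (x y : Fin n → F) : herm q (-x) y = -herm q x y := by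
  simp [hermForm, Finset.sum_neg_distrib]

@[simp] theorem herm_zero_left (y : Fin n → F) : herm q (0 : Fin n → F) y = 0 := by
  simp [hermForm]

theorem herm_sum_left {ι : Type*} (s : Finset ι) (f : ι → Fin n → F) (y : Fin n → F) :
    herm q (∑ i ∈ s, f i) y = ∑ i ∈ s, herm q (f i) y := by
  simp only [hermForm, Finset.sum_apply, Finset.sum_mul]
  exact Finset.sum_comm

/-- The standard basis vector. -/
def eI (i : Fin n) : Fin n → F := Pi.single i 1

theorem herm_eI_left (i : Fin n) (y : Fin n → F) : herm q (eI i) y = y i ^ q := by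
  simp [hermForm, eI, Pi.single_apply]

variable [Fintype F] (hF : Fintype.card F = q ^ 2)

section Form

include hF

theorem herm_add_right (x y y' : Fin n → F) : herm q x (y + y') = herm q x y + herm q x y' := by
  simp [hermForm, add_pow_q hF, mul_add, Finset.sum_add_distrib]

theorem herm_smul_right (a : F) (x y : Fin n → F) : herm q x (a • y) = a ^ q * herm q x y := by
  simp [hermForm, Finset.mul_sum, mul_pow]
  exact Finset.sum_congr rfl fun i _ => by ring

theorem herm_sub_right (x y y' : Fin n → F) : herm q x (y - y') = herm q x y - herm q x y' := by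
  simp [hermForm, sub_pow_q hF, mul_sub, Finset.sum_sub_distrib]

theorem herm_neg_right (x y : Fin n → F) : herm q x (-y) = -herm q x y := by
  simp [hermForm, neg_pow_q hF, Finset.sum_neg_distrib]

theorem herm_zero_right (x : Fin n → F) : herm q x (0 : Fin n → F) = 0 := by
  simp [hermForm, zero_pow_q hF]

theorem herm_swap (x y : Fin n → F) : herm q y x = herm q x y ^ q := by
  rw [herm, herm, hermForm, hermForm, sum_pow_q hF]
  exact Finset.sum_congr rfl fun i _ => by rw [mul_pow, pow_q_pow_q hF, mul_comm]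

theorem herm_self_fixed (x : Fin n → F) : herm q x x ^ q = herm q x x := (herm_swap hF x x).symm

theorem herm_eI_right (i : Fin n) (x : Fin n → F) : herm q x (eI i) = x i := by
  rw [herm_swap hF (eI i) x, herm_eI_left, pow_q_pow_q hF]

theorem herm_eI_eI (i j : Fin n) : herm q (eI i) (eI j : Fin n → F) = if i = j then 1 else 0 := by
  rw [herm_eI_right hF]
  simp [eI, Pi.single_apply, eq_comm]

theorem herm_eq_zero_comm {x y : Fin n → F} : herm q x y = 0 ↔ herm q y x = 0 := by
  rw [herm_swap hF x y, pow_q_eq_zero_iff hF]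

theorem eq_zero_of_herm {x : Fin n → F} (h : ∀ y, herm q x y = 0) : x = 0 :=
  funext fun i => by simpa [herm_eI_right hF] using h (eI i)

end Form

/-! ### The groups -/

/-- Preserving the form is membership in `GU`. -/
theorem mem_GU_iff {g : GL (Fin n) F} :
    g ∈ GU n F q ↔ ∀ x y : Fin n → F, herm q (g • x) (g • y) = herm q x y := Iff.rfl

theorem herm_smul_GU (g : GU n F q) (x y : Fin n → F) :
    herm q (g • x) (g • y) = herm q x y := g.2 x y

theorem herm_smul_SU (g : SU n F q) (x y : Fin n → F) :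
    herm q (g • x) (g • y) = herm q x y := g.2 x y

theorem eq_of_smul_eq_SU {g h : SU n F q} (hgh : ∀ v : Fin n → F, g • v = h • v) : g = h :=
  Subtype.ext (Subtype.ext (Matrix.ext_of_mulVec_single fun i => hgh (Pi.single i 1)))

theorem eq_of_smul_eq_GU {g h : GU n F q} (hgh : ∀ v : Fin n → F, g • v = h • v) : g = h :=
  Subtype.ext (Units.ext (Matrix.ext_of_mulVec_single fun i => hgh (Pi.single i 1)))

/-- `SU` inside `GU`. -/
def toGU : SU n F q →* GU n F q where
  toFun g := ⟨Matrix.SpecialLinearGroup.toGL g.1, g.2⟩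
  map_one' := Subtype.ext (map_one _)
  map_mul' a b := Subtype.ext (map_mul _ _ _)

omit [Fintype F] in
theorem toGU_smul (g : SU n F q) (v : Fin n → F) : toGU g • v = g • v := rfl

section Mk

include hF

theorem det_ne_zero_of_form (M : Matrix (Fin n) (Fin n) F)
    (h : ∀ x y, herm q (M *ᵥ x) (M *ᵥ y) = herm q x y) : M.det ≠ 0 := by
  refine ((Matrix.isUnit_iff_isUnit_det M).1 (Matrix.mulVec_injective_iff_isUnit.1 ?_)).ne_zero
  intro x y hxy
  refine sub_eq_zero.1 (eq_zero_of_herm hF fun z => ?_)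
  rw [herm_sub_left, ← h x z, ← h y z, hxy, sub_self]

/-- An element of `GU` from a form-preserving matrix. -/
noncomputable def mkGU (M : Matrix (Fin n) (Fin n) F)
    (h : ∀ x y, herm q (M *ᵥ x) (M *ᵥ y) = herm q x y) : GU n F q :=
  ⟨GeneralLinearGroup.mkOfDetNeZero M (det_ne_zero_of_form hF M h), h⟩

theorem mkGU_smul (M : Matrix (Fin n) (Fin n) F)
    (h : ∀ x y, herm q (M *ᵥ x) (M *ᵥ y) = herm q x y) (v : Fin n → F) :
    mkGU hF M h • v = M *ᵥ v := rfl

/-- An element of `GU` from a form-preserving linear equivalence. -/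
theorem exists_GU_of_linearEquiv (g : (Fin n → F) ≃ₗ[F] (Fin n → F))
    (h : ∀ x y, herm q (g x) (g y) = herm q x y) :
    ∃ G : GU n F q, ∀ v : Fin n → F, G • v = g v := by
  refine ⟨mkGU hF (LinearMap.toMatrix' g.toLinearMap) ?_, fun v => ?_⟩
  · intro x y
    rw [LinearMap.toMatrix'_mulVec, LinearMap.toMatrix'_mulVec]
    exact h x y
  · rw [mkGU_smul, LinearMap.toMatrix'_mulVec]
    rfl

end Mk

/-! ### Coordinate subspaces and stabilisers -/

/-- Vectors vanishing on the coordinates in `S`. -/
def supp (S : Finset (Fin n)) : Submodule F (Fin n → F) where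
  carrier := {v | ∀ i ∈ S, v i = 0}
  add_mem' ha hb i hi := by simp [ha i hi, hb i hi]
  zero_mem' := by simp
  smul_mem' a v hv i hi := by simp [hv i hi]

omit [Fintype F] in
theorem mem_supp {S : Finset (Fin n)} {v : Fin n → F} : v ∈ supp S ↔ ∀ i ∈ S, v i = 0 := Iff.rfl

omit [Fintype F] in
theorem supp_empty : (supp ∅ : Submodule F (Fin n → F)) = ⊤ := by ext; simp [mem_supp]

omit [Fintype F] in
theorem supp_anti {S T : Finset (Fin n)} (h : S ⊆ T) :
    (supp T : Submodule F (Fin n → F)) ≤ supp S := fun _ hv i hi => hv i (h hi)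

omit [Fintype F] in
theorem eI_mem_supp {S : Finset (Fin n)} {i : Fin n} (hi : i ∉ S) :
    (eI i : Fin n → F) ∈ supp S := by
  intro j hj
  have : j ≠ i := fun h => hi (h ▸ hj)
  simp [eI, this]

omit [Fintype F] in
theorem eq_sum_eI (v : Fin n → F) : v = ∑ i, v i • (eI i : Fin n → F) := by
  funext j
  simp [eI, Pi.single_apply]

/-- Elements of `SU` fixing the basis vectors indexed by `S`. -/
def fixS (S : Finset (Fin n)) : Subgroup (SU n F q) :=
  ⨅ i ∈ S, MulAction.stabilizer (SU n F q) (eI i : Fin n → F)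

/-- Elements of `GU` fixing the basis vectors indexed by `S`. -/
def fixGU (S : Finset (Fin n)) : Subgroup (GU n F q) :=
  ⨅ i ∈ S, MulAction.stabilizer (GU n F q) (eI i : Fin n → F)

omit [Fintype F] in
theorem mem_fixS {S : Finset (Fin n)} {g : SU n F q} :
    g ∈ fixS S ↔ ∀ i ∈ S, g • (eI i : Fin n → F) = eI i := by
  simp [fixS, Subgroup.mem_iInf, MulAction.mem_stabilizer_iff]

omit [Fintype F] in
theorem mem_fixGU {S : Finset (Fin n)} {g : GU n F q} :
    g ∈ fixGU S ↔ ∀ i ∈ S, g • (eI i : Fin n → F) = eI i := by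
  simp [fixGU, Subgroup.mem_iInf, MulAction.mem_stabilizer_iff]

include hF in
theorem smul_mem_supp_GU {S : Finset (Fin n)} {g : GU n F q} (hg : g ∈ fixGU S)
    {v : Fin n → F} (hv : v ∈ supp S) : g • v ∈ supp S := by
  intro i hi
  rw [← herm_eI_right hF i (g • v), ← mem_fixGU.1 hg i hi, herm_smul_GU, herm_eI_right hF]
  exact hv i hi

include hF in
theorem smul_mem_supp_SU {S : Finset (Fin n)} {g : SU n F q} (hg : g ∈ fixS S)
    {v : Fin n → F} (hv : v ∈ supp S) : g • v ∈ supp S := by
  intro i hi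
  rw [← herm_eI_right hF i (g • v), ← mem_fixS.1 hg i hi, herm_smul_SU, herm_eI_right hF]
  exact hv i hi

/-! ### Witt's lemma -/

/-- The form as a semilinear map (conjugate-linear variable first). -/
noncomputable def hermB (n : ℕ) :
    (Fin n → F) →ₛₗ[conjHom hF] (Fin n → F) →ₗ[F] F :=
  LinearMap.mk₂'ₛₗ (conjHom hF) (RingHom.id F) (fun x y => herm q y x)
    (fun x x' y => herm_add_right hF y x x') (fun a x y => herm_smul_right hF a y x)
    (fun x y y' => herm_add_left y y' x) (fun a x y => herm_smul_left a y x)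

theorem hermB_apply (x y : Fin n → F) : hermB hF n x y = herm q y x := rfl

include hF in
theorem conjHom_ne_id : conjHom hF ≠ RingHom.id F := by
  intro h
  obtain ⟨c, hc, hc'⟩ := exists_trace_zero_ne_zero hF
  have hq := two_le_q hF
  have hall : Nat.card {x : F // x ^ q = x} = Nat.card F :=
    Nat.card_congr (Equiv.subtypeUnivEquiv fun x => RingHom.congr_fun h x)
  rw [card_fixed hF, Nat.card_eq_fintype_card, hF, sq] at hall
  nlinarith

include hF in
/-- Witt's lemma for two orthogonal systems built on a fixed set of basis vectors. -/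
theorem exists_fixGU_of_map (S : Finset (Fin n)) (X : Submodule F (Fin n → F))
    (f : (Fin n → F) →ₗ[F] (Fin n → F)) (hX : ∀ i ∈ S, (eI i : Fin n → F) ∈ X)
    (hfix : ∀ i ∈ S, f (eI i) = eI i) (hinj : ∀ v ∈ X, f v = 0 → v = 0)
    (hf : ∀ u ∈ X, ∀ v ∈ X, herm q (f u) (f v) = herm q u v) :
    ∃ g : GU n F q, g ∈ fixGU S ∧ ∀ v ∈ X, g • v = f v := by
  have hN : (hermB hF n).Nondegenerate :=
    ⟨fun x h => funext fun i => by
      have := h (eI i)
      rw [hermB_apply, herm_eI_left, pow_q_eq_zero_iff hF] at this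
      exact this,
    fun y h => eq_zero_of_herm hF fun x => h x⟩
  obtain ⟨g, hg, hgX⟩ := Forms.witt_hermitian' (σ := conjHom hF) (conjHom_ne_id hF)
    (pow_q_pow_q hF) (hermB hF n) hN ⟨fun a b => (herm_swap hF b a).symm⟩ X f hinj
    (fun u hu v hv => hf v hv u hu)
  obtain ⟨G, hG⟩ := exists_GU_of_linearEquiv hF g fun x y => hg y x
  refine ⟨G, mem_fixGU.2 fun i hi => ?_, fun v hv => ?_⟩
  · rw [hG, hgX _ (hX i hi), hfix i hi]
  · rw [hG, hgX v hv]

/-! ### Unipotent elements -/

/-- The matrix of `x ↦ x + h(x,u) w - h(x,w) u + b h(x,u) u`. -/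
def qelMat (q : ℕ) (u w : Fin n → F) (b : F) : Matrix (Fin n) (Fin n) F :=
  1 + (Matrix.vecMulVec w (fun j => u j ^ q) - Matrix.vecMulVec u (fun j => w j ^ q)
    + b • Matrix.vecMulVec u (fun j => u j ^ q))

omit [Fintype F] in
theorem qelMat_mulVec (u w : Fin n → F) (b : F) (x : Fin n → F) :
    qelMat q u w b *ᵥ x =
      x + (herm q x u • w - herm q x w • u + (b * herm q x u) • u) := by
  have e : ∀ y : Fin n → F, (fun j => y j ^ q) ⬝ᵥ x = herm q x y := fun y => by
    rw [dotProduct_comm]; rfl
  simp [qelMat, Matrix.add_mulVec, Matrix.sub_mulVec, Matrix.smul_mulVec,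
    Matrix.vecMulVec_mulVec, e, smul_smul]

variable {u w : Fin n → F} {b : F}

include hF in
theorem qelMat_form (hu : herm q u u = 0) (hwu : herm q w u = 0)
    (hb : b + b ^ q = -herm q w w) (x y : Fin n → F) :
    herm q (qelMat q u w b *ᵥ x) (qelMat q u w b *ᵥ y) = herm q x y := by
  have huw : herm q u w = 0 := (herm_eq_zero_comm hF).1 hwu
  simp only [qelMat_mulVec, herm_add_left, herm_sub_left, herm_smul_left, herm_add_right hF,
    herm_sub_right hF, herm_smul_right hF, hu, hwu, huw, mul_pow]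
  rw [← herm_swap hF y u, ← herm_swap hF y w]
  linear_combination (herm q x u * herm q u y) * hb

include hF in
theorem qelMat_det (hu : herm q u u = 0) (hwu : herm q w u = 0) :
    (qelMat q u w b).det = 1 := by
  obtain ⟨p, k, hp, -, hc, -⟩ := exists_prime_pow hF
  haveI := hc
  haveI := Fact.mk hp
  set N := Matrix.vecMulVec w (fun j => u j ^ q) - Matrix.vecMulVec u (fun j => w j ^ q)
    + b • Matrix.vecMulVec u (fun j => u j ^ q) with hN
  have huw : herm q u w = 0 := (herm_eq_zero_comm hF).1 hwu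
  have hNx : ∀ x, N *ᵥ x = herm q x u • w - herm q x w • u + (b * herm q x u) • u := fun x => by
    have := qelMat_mulVec (q := q) u w b x
    rw [qelMat, Matrix.add_mulVec, Matrix.one_mulVec, ← hN] at this
    exact add_left_cancel this
  have h3 : N ^ 3 = 0 := by
    refine Matrix.ext_of_mulVec_single fun i => ?_
    simp only [pow_succ, pow_zero, one_mul, ← Matrix.mulVec_mulVec, hNx, Matrix.zero_mulVec,
      herm_add_left, herm_sub_left, herm_smul_left, hu, hwu, huw]
    simp
  rcases isEmpty_or_nonempty (Fin n) with hne | hne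
  · exact Matrix.det_isEmpty
  have h32 : 3 ≤ p ^ 2 := by nlinarith [hp.two_le]
  have hpow : N ^ (p ^ 2) = 0 := by
    rw [show p ^ 2 = 3 + (p ^ 2 - 3) by omega, pow_add, h3, zero_mul]
  have hmat : qelMat q u w b ^ (p ^ 2) = 1 := by
    rw [qelMat, ← hN, add_pow_char_pow_of_commute _ _ (Commute.one_left N), one_pow, hpow,
      add_zero]
  have hdet : (qelMat q u w b).det ^ (p ^ 2) = 1 := by
    rw [← Matrix.det_pow, hmat, Matrix.det_one]
  have h0 : ((qelMat q u w b).det - 1) ^ (p ^ 2) = 0 := by
    rw [sub_pow_char_pow, hdet, one_pow, sub_self]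
  exact sub_eq_zero.1 ((pow_eq_zero_iff (by omega : p ^ 2 ≠ 0)).1 h0)

/-- The unipotent element `x ↦ x + h(x,u) w - h(x,w) u + b h(x,u) u` of `SU`. -/
def Qel (hu : herm q u u = 0) (hwu : herm q w u = 0) (hb : b + b ^ q = -herm q w w) : SU n F q :=
  ⟨⟨qelMat q u w b, qelMat_det hF hu hwu⟩, qelMat_form hF hu hwu hb⟩

theorem Qel_smul (hu : herm q u u = 0) (hwu : herm q w u = 0) (hb : b + b ^ q = -herm q w w)
    (x : Fin n → F) :
    Qel hF hu hwu hb • x = x + (herm q x u • w - herm q x w • u + (b * herm q x u) • u) :=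
  qelMat_mulVec u w b x

/-- The transvection `x ↦ x + c h(x,u) u`. -/
def tv {c : F} (hu : herm q u u = 0) (hc : c + c ^ q = 0) : SU n F q :=
  Qel hF (w := 0) (b := c) hu (herm_zero_left u) (by rw [hc, herm_zero_left, neg_zero])

theorem tv_smul {c : F} (hu : herm q u u = 0) (hc : c + c ^ q = 0) (x : Fin n → F) :
    tv hF hu hc • x = x + (c * herm q x u) • u := by
  rw [tv, Qel_smul, herm_zero_right hF]
  simp

theorem coe_tv {c : F} (hu : herm q u u = 0) (hc : c + c ^ q = 0) :
    (((tv hF hu hc : SU n F q) : Matrix.SpecialLinearGroup (Fin n) F) : Matrix (Fin n) (Fin n) F) =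
      unitaryTransvection n q u c := by
  refine Matrix.ext_of_mulVec_single fun i => ?_
  have := tv_smul hF hu hc (Pi.single i 1)
  refine this.trans ?_
  rw [unitaryTransvection, Matrix.add_mulVec, Matrix.one_mulVec, Matrix.smul_mulVec,
    Matrix.vecMulVec_mulVec, show herm q (Pi.single i 1 : Fin n → F) u = u i ^ q from herm_eI_left i u]
  funext j
  simp
  ring

theorem tv_mem_fixS {c : F} (hu : herm q u u = 0) (hc : c + c ^ q = 0) {S : Finset (Fin n)}
    (huS : u ∈ supp S) : tv hF hu hc ∈ fixS S := by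
  refine mem_fixS.2 fun i hi => ?_
  rw [tv_smul, herm_eI_left, huS i hi, zero_pow_q hF]
  simp

end Cfsg.Agent.Unitary
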