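import Cfsg.Agent.Lib.Unitary.Basic

/-!
When does a unitary transvection matrix preserve the form (helper10).
-/

set_option autoImplicit false

namespace Cfsg.Agent.Unitary

open Matrix

variable {F : Type*} [Field F] [Fintype F] {n q : ℕ} (hF : Fintype.card F = q ^ 2)

include hF

theorem unitaryTransvection_mulVec (v : Fin n → F) (c : F) (x : Fin n → F) :
    unitaryTransvection n q v c *ᵥ x = x + (c * herm q x v) • v := by
  rw [unitaryTransvection, Matrix.add_mulVec, Matrix.one_mulVec, Matrix.smul_mulVec,
    Matrix.vecMulVec_mulVec, op_smul_eq_smul, smul_smul, dotProduct_comm]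
  rfl

theorem trace_zero_of_preserves {v : Fin n → F} (hv : v ≠ 0) (hv0 : herm q v v = 0) {c : F}
    (h : ∀ x y : Fin n → F, herm q (unitaryTransvection n q v c *ᵥ x)
      (unitaryTransvection n q v c *ᵥ y) = herm q x y) : c + c ^ q = 0 := by
  obtain ⟨j, hj⟩ := Function.ne_iff.1 hv
  have hj' : v j ^ q ≠ 0 := mt (pow_q_eq_zero_iff hF).1 hj
  set x : Fin n → F := (v j ^ q)⁻¹ • eI j with hx
  have hxv : herm q x v = 1 := by
    rw [hx, herm_smul_left, herm_eI_left, inv_mul_cancel₀ hj']
  have h2 := h x x
  simp only [unitaryTransvection_mulVec hF, herm_add_left, herm_add_right hF, herm_smul_left,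
    herm_smul_right hF, hxv, hv0, herm_swap hF x v, one_pow, mul_one] at h2
  linear_combination h2

end Cfsg.Agent.Unitary
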