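import Cfsg.Agent.Lib.Unitary.Count

/-!
The subgroup of `SU` generated by unitary transvections and its moves on isotropic vectors and
hyperbolic pairs (helper10).
-/

set_option autoImplicit false

namespace Cfsg.Agent.Unitary

open Matrix

variable {F : Type*} [Field F] [Fintype F] {n q : ℕ} (hF : Fintype.card F = q ^ 2)
variable {S : Finset (Fin n)} {u v w : Fin n → F}

/-- The group generated by transvections with centre supported outside `S`. -/
def tvGroup (S : Finset (Fin n)) : Subgroup (SU n F q) :=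
  Subgroup.closure {g | ∃ (u : Fin n → F) (c : F) (hu : herm q u u = 0) (hc : c + c ^ q = 0),
    u ∈ supp S ∧ g = tv hF hu hc}

theorem tv_mem_tvGroup {c : F} (hu : herm q u u = 0) (hc : c + c ^ q = 0) (huS : u ∈ supp S) :
    tv hF hu hc ∈ tvGroup hF S :=
  Subgroup.subset_closure ⟨u, c, hu, hc, huS, rfl⟩

theorem tvGroup_le_fixS : tvGroup hF S ≤ fixS S := by
  rw [tvGroup, Subgroup.closure_le]
  rintro _ ⟨u, c, hu, hc, huS, rfl⟩
  exact tv_mem_fixS hF hu hc huS

theorem tvGroup_anti {T : Finset (Fin n)} (h : S ⊆ T) : tvGroup hF T ≤ tvGroup hF S :=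
  Subgroup.closure_mono fun _ ⟨u, c, hu, hc, huS, hg⟩ => ⟨u, c, hu, hc, supp_anti h huS, hg⟩

theorem conj_tv (g : SU n F q) {c : F} (hu : herm q u u = 0) (hc : c + c ^ q = 0) :
    g * tv hF hu hc * g⁻¹ = tv hF ((herm_smul_SU g u u).trans hu) hc := by
  refine eq_of_smul_eq_SU fun x => ?_
  rw [mul_smul, mul_smul, tv_smul, tv_smul, smul_add, smul_inv_smul, smul_comm g]
  congr 3
  rw [← herm_smul_SU g, smul_inv_smul]

theorem conj_mem_tvGroup {g t : SU n F q} (hg : g ∈ fixS S) (ht : t ∈ tvGroup hF S) :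
    g * t * g⁻¹ ∈ tvGroup hF S := by
  induction ht using Subgroup.closure_induction with
  | mem t ht =>
    obtain ⟨u, c, hu, hc, huS, rfl⟩ := ht
    rw [conj_tv]
    exact tv_mem_tvGroup hF _ hc (smul_mem_supp_SU hF hg huS)
  | one => simp
  | mul a b _ _ ha hb =>
    have := mul_mem ha hb
    convert this using 1
    group
  | inv a _ ha =>
    have := inv_mem ha
    convert this using 1
    group

include hF

/-! ### Hyperbolic pairs -/

theorem herm_one_swap (h : herm q u v = 1) : herm q v u = 1 := by rw [herm_swap hF u v, h, one_pow]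

theorem ne_zero_of_herm_one (h : herm q u v = 1) : u ≠ 0 := fun e => by simp [e] at h

theorem exists_partner (huS : u ∈ supp S) (hu : herm q u u = 0) (hu0 : u ≠ 0) :
    ∃ v ∈ supp S, herm q v v = 0 ∧ herm q u v = 1 := by
  obtain ⟨j, hj⟩ := Function.ne_iff.1 hu0
  have hjS : j ∉ S := fun h => hj (huS j h)
  have hj' : u j ^ q ≠ 0 := mt (pow_q_eq_zero_iff hF).1 hj
  set y : Fin n → F := (u j ^ q)⁻¹ • eI j with hy
  have huy : herm q u y = 1 := by
    rw [hy, herm_smul_right hF, herm_eI_right hF, inv_pow, pow_q_pow_q hF]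
    exact inv_mul_cancel₀ hj
  obtain ⟨b, hb⟩ := exists_trace_eq hF (t := -herm q y y)
    (by rw [neg_pow_q hF, herm_self_fixed hF])
  refine ⟨y + b • u, add_mem (Submodule.smul_mem _ _ (eI_mem_supp hjS)) (Submodule.smul_mem _ _ huS),
    ?_, ?_⟩
  · simp only [herm_add_left, herm_add_right hF, herm_smul_left, herm_smul_right hF, hu, huy,
      herm_one_swap hF huy]
    linear_combination hb
  · rw [herm_add_right hF, huy, herm_smul_right hF, hu, mul_zero, add_zero]

/-- An isotropic vector and partner inside the coordinates `i`, `j`. -/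
theorem exists_std_pair {i j : Fin n} (hij : i ≠ j) :
    ∃ u v : Fin n → F, u ∈ supp ({i, j}ᶜ) ∧ v ∈ supp ({i, j}ᶜ) ∧ herm q u u = 0 ∧ herm q v v = 0 ∧
      herm q u v = 1 := by
  obtain ⟨a, ha⟩ := exists_norm_eq hF (t := (-1 : F)) (by rw [neg_pow_q hF, one_pow])
  set u : Fin n → F := eI i + a • eI j with hu
  have hmem : u ∈ supp ({i, j}ᶜ) :=
    add_mem (eI_mem_supp (by simp)) (Submodule.smul_mem _ _ (eI_mem_supp (by simp)))
  have huu : herm q u u = 0 := by
    simp only [hu, herm_add_left, herm_add_right hF, herm_smul_left, herm_smul_right hF,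
      herm_eI_eI hF, if_true, if_neg hij, if_neg hij.symm, mul_zero, mul_one, add_zero, zero_add]
    rw [← pow_succ, ha, add_neg_cancel]
  have hu0 : u ≠ 0 := fun e => by
    have := congrFun e i
    simp [hu, eI, hij] at this
  obtain ⟨v, hv, hvv, huv⟩ := exists_partner hF hmem huu hu0
  exact ⟨u, v, hmem, hv, huu, hvv, huv⟩

/-- In two coordinates a hyperbolic pair spans. -/
theorem eq_pair_combination {i j : Fin n} (hij : i ≠ j) (hcompl : ∀ k, k ∉ S → k = i ∨ k = j)
    (hi : i ∉ S) (hj : j ∉ S) (huS : u ∈ supp S) (hvS : v ∈ supp S) (hu : herm q u u = 0)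
    (hv : herm q v v = 0) (huv : herm q u v = 1) {x : Fin n → F} (hx : x ∈ supp S) :
    x = herm q x v • u + herm q x u • v := by
  have key : ∀ y z : Fin n → F, y ∈ supp S → herm q y z = y i * z i ^ q + y j * z j ^ q := by
    intro y z hy
    rw [herm, hermForm, ← Finset.sum_subset (Finset.subset_univ {i, j}) (fun k _ hk => by
      simp only [Finset.mem_insert, Finset.mem_singleton, not_or] at hk
      have : k ∈ S := by by_contra h; rcases hcompl k h with h | h <;> simp_all
      simp [hy k this]), Finset.sum_pair hij]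
  have huu := (key u u huS).symm.trans hu
  have huv' := (key u v huS).symm.trans huv
  have hvu' := (key v u hvS).symm.trans (herm_one_swap hF huv)
  have hD : u i * v j - u j * v i ≠ 0 := by
    intro hD
    have hi0 : u i = 0 := by linear_combination (v i) * huu - (u i) * hvu' + (u j ^ q) * hD
    have hj0 : u j = 0 := by linear_combination (v j) * huu - (u j) * hvu' - (u i ^ q) * hD
    refine ne_zero_of_herm_one hF huv (funext fun k => ?_)
    by_cases hk : k ∈ S
    · exact huS k hk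
    · rcases hcompl k hk with rfl | rfl
      · exact hi0
      · exact hj0
  set z : Fin n → F := x - (herm q x v • u + herm q x u • v) with hz
  have hzS : z ∈ supp S :=
    sub_mem hx (add_mem (Submodule.smul_mem _ _ huS) (Submodule.smul_mem _ _ hvS))
  have hzu : herm q z u = 0 := by
    simp only [hz, herm_sub_left, herm_add_left, herm_smul_left, hu, herm_one_swap hF huv]
    ring
  have hzv : herm q z v = 0 := by
    simp only [hz, herm_sub_left, herm_add_left, herm_smul_left, hv, huv]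
    ring
  rw [key z u hzS] at hzu
  rw [key z v hzS] at hzv
  have hD' : u i ^ q * v j ^ q - u j ^ q * v i ^ q ≠ 0 := by
    rw [← mul_pow, ← mul_pow, ← sub_pow_q hF]
    exact mt (pow_q_eq_zero_iff hF).1 hD
  refine sub_eq_zero.1 (funext fun k => ?_)
  show z k = 0
  by_cases hk : k ∈ S
  · exact hzS k hk
  · rcases hcompl k hk with rfl | rfl <;> refine (mul_eq_zero.1 ?_).resolve_right hD'
    · linear_combination (v j ^ q) * hzu - (u j ^ q) * hzv
    · linear_combination (u i ^ q) * hzv - (v i ^ q) * hzu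

theorem exists_fixGU_pair {u' v' : Fin n → F} (huS : u ∈ supp S) (hvS : v ∈ supp S)
    (huS' : u' ∈ supp S) (hvS' : v' ∈ supp S) (hu : herm q u u = 0) (hv : herm q v v = 0)
    (huv : herm q u v = 1) (hu' : herm q u' u' = 0) (hv' : herm q v' v' = 0)
    (huv' : herm q u' v' = 1) :
    ∃ g : GU n F q, g ∈ fixGU S ∧ g • u = u' ∧ g • v = v' := by
  let mk : (Fin n → F) → (Fin n → F) → (Fin n → F) →ₗ[F] (Fin n → F) := fun a b =>
    { toFun := fun x => (∑ i ∈ S, x i • eI i) + (herm q x v • a + herm q x u • b)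
      map_add' := fun x y => by
        simp only [Pi.add_apply, add_smul, Finset.sum_add_distrib, herm_add_left]
        abel
      map_smul' := fun r x => by
        simp only [Pi.smul_apply, smul_eq_mul, herm_smul_left, RingHom.id_apply, smul_add,
          Finset.smul_sum, smul_smul] }
  set f := mk u' v'
  set P := mk u v
  set X := LinearMap.eqLocus P LinearMap.id
  have hS : ∀ (a b : Fin n → F), a ∈ supp S → b ∈ supp S → ∀ x : Fin n → F, ∀ i ∈ S,
      (mk a b x) i = x i := by
    intro a b ha hb x i hi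
    simp [mk, Finset.sum_apply, eI, Pi.single_apply, hi, ha i hi, hb i hi]
  have hs : ∀ (a : Fin n → F), a ∈ supp S → ∀ x : Fin n → F,
      herm q (∑ i ∈ S, x i • eI i) a = 0 := by
    intro a ha x
    rw [herm_sum_left]
    exact Finset.sum_eq_zero fun i hi => by
      rw [herm_smul_left, herm_eI_left, ha i hi, zero_pow_q hF, mul_zero]
  have hform : ∀ (a b : Fin n → F), a ∈ supp S → b ∈ supp S → herm q a a = 0 → herm q b b = 0 →
      herm q a b = 1 → ∀ x y : Fin n → F,
      herm q (mk a b x) (mk a b y) = herm q (∑ i ∈ S, x i • eI i) (∑ i ∈ S, y i • eI i) +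
        (herm q x v * herm q y u ^ q + herm q x u * herm q y v ^ q) := by
    intro a b ha hb haa hbb hab x y
    have hsa : ∀ x : Fin n → F, herm q a (∑ i ∈ S, x i • eI i) = 0 := fun x =>
      (herm_eq_zero_comm hF).1 (hs a ha x)
    have hsb : ∀ x : Fin n → F, herm q b (∑ i ∈ S, x i • eI i) = 0 := fun x =>
      (herm_eq_zero_comm hF).1 (hs b hb x)
    simp only [mk, LinearMap.coe_mk, AddHom.coe_mk, herm_add_left, herm_add_right hF,
      herm_smul_left, herm_smul_right hF, haa, hbb, hab, herm_one_swap hF hab, hsa, hsb,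
      hs a ha, hs b hb]
    ring
  have hmem : ∀ i ∈ S, mk u v (eI i) = eI i := by
    intro i hi
    simp only [mk, LinearMap.coe_mk, AddHom.coe_mk, herm_eI_left, huS i hi, hvS i hi,
      zero_pow_q hF, zero_smul, add_zero]
    rw [Finset.sum_eq_single i (fun j _ hj => by simp [eI, hj]) (fun h => absurd hi h)]
    simp [eI]
  obtain ⟨g, hg, hgX⟩ := exists_fixGU_of_map hF S X f hmem
    (fun i hi => by
      simp only [f, mk, LinearMap.coe_mk, AddHom.coe_mk, herm_eI_left, huS i hi, hvS i hi,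
        zero_pow_q hF, zero_smul, add_zero]
      rw [Finset.sum_eq_single i (fun j _ hj => by simp [eI, hj]) (fun h => absurd hi h)]
      simp [eI])
    (fun x hx h => by
      have hx' : P x = x := hx
      have hc : ∀ i ∈ S, x i = 0 := fun i hi => by
        rw [← hS u' v' huS' hvS' x i hi]
        exact congrFun h i
      have hsum : (∑ i ∈ S, x i • eI i : Fin n → F) = 0 :=
        Finset.sum_eq_zero fun i hi => by rw [hc i hi, zero_smul]
      simp only [f, P, mk, LinearMap.coe_mk, AddHom.coe_mk, hsum, zero_add] at h hx'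
      have h1 := congrArg (fun z => herm q z v') h
      have h2 := congrArg (fun z => herm q z u') h
      simp only [herm_add_left, herm_smul_left, huv', hv', hu', herm_one_swap hF huv', mul_one,
        mul_zero, add_zero, zero_add, herm_zero_left] at h1 h2
      rw [← hx', h1, h2]
      simp)
    (fun x hx y hy => by
      have hx' : P x = x := hx
      have hy' : P y = y := hy
      conv_rhs => rw [← hx', ← hy']
      rw [hform u' v' huS' hvS' hu' hv' huv', hform u v huS hvS hu hv huv])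
  have hz : ∀ a : Fin n → F, a ∈ supp S → (∑ i ∈ S, a i • eI i : Fin n → F) = 0 := fun a ha =>
    Finset.sum_eq_zero fun i hi => by rw [ha i hi, zero_smul]
  refine ⟨g, hg, ?_, ?_⟩
  · rw [hgX u (show P u = u by simp [P, mk, hz u huS, hu, huv])]
    simp [f, mk, hz u huS, hu, huv]
  · rw [hgX v (show P v = v by simp [P, mk, hz v hvS, hv, herm_one_swap hF huv])]
    simp [f, mk, hz v hvS, hv, herm_one_swap hF huv]

omit hF in
theorem exists_three {S : Finset (Fin n)} (h : 3 ≤ Sᶜ.card) :
    ∃ i j k : Fin n, i ∉ S ∧ j ∉ S ∧ k ∉ S ∧ i ≠ j ∧ i ≠ k ∧ j ≠ k := by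
  obtain ⟨i, j, k, hi, hj, hk, h1, h2, h3⟩ := Finset.two_lt_card_iff.1 h
  exact ⟨i, j, k, Finset.mem_compl.1 hi, Finset.mem_compl.1 hj, Finset.mem_compl.1 hk, h1, h2, h3⟩

/-- A vector of any norm orthogonal to a hyperbolic pair. -/
theorem exists_orth_norm (h3 : 3 ≤ Sᶜ.card) (huS : u ∈ supp S) (hvS : v ∈ supp S)
    (hu : herm q u u = 0) (hv : herm q v v = 0) (huv : herm q u v = 1) {t : F} (ht : t ^ q = t) :
    ∃ w ∈ supp S, herm q w u = 0 ∧ herm q w v = 0 ∧ herm q w w = t := by
  obtain ⟨i, j, k, hi, hj, hk, hij, hik, hjk⟩ := exists_three h3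
  obtain ⟨u0, v0, hu0S, hv0S, hu0, hv0, huv0⟩ := exists_std_pair hF hij
  have hsub : supp ({i, j}ᶜ) ≤ (supp S : Submodule F (Fin n → F)) := supp_anti (by
    intro l hl
    simp only [Finset.mem_compl, Finset.mem_insert, Finset.mem_singleton]
    rintro (rfl | rfl) <;> contradiction)
  obtain ⟨g, hg, hgu, hgv⟩ := exists_fixGU_pair hF (hsub hu0S) (hsub hv0S) huS hvS hu0 hv0 huv0
    hu hv huv
  obtain ⟨a, ha⟩ := exists_norm_eq hF ht
  have hkS : k ∈ ({i, j}ᶜ : Finset (Fin n)) := by simp [hik.symm, hjk.symm]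
  refine ⟨a • (g • eI k), Submodule.smul_mem _ _ (smul_mem_supp_GU hF hg (eI_mem_supp hk)), ?_, ?_, ?_⟩
  · rw [← hgu, herm_smul_left, herm_smul_GU, herm_eI_left, hu0S k hkS, zero_pow_q hF, mul_zero]
  · rw [← hgv, herm_smul_left, herm_smul_GU, herm_eI_left, hv0S k hkS, zero_pow_q hF, mul_zero]
  · rw [herm_smul_left, herm_smul_right hF, herm_smul_GU, herm_eI_eI hF, if_pos rfl, mul_one, ← ha,
      pow_succ']

/-! ### Moves inside a hyperbolic plane -/

/-- `u ↦ c v` for `c` of trace zero, fixing the orthogonal complement of the plane. -/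
theorem exists_swap (huS : u ∈ supp S) (hvS : v ∈ supp S) (hu : herm q u u = 0)
    (hv : herm q v v = 0) (huv : herm q u v = 1) {c : F} (hc0 : c ≠ 0) (hc : c + c ^ q = 0) :
    ∃ t ∈ tvGroup hF S, t • u = c • v ∧
      ∀ x, herm q x u = 0 → herm q x v = 0 → t • x = x := by
  have hc' : (-c⁻¹) + (-c⁻¹) ^ q = 0 := by
    rw [neg_pow_q hF, inv_pow, eq_neg_of_add_eq_zero_right hc, inv_neg, neg_neg, neg_add_cancel]
  refine ⟨tv hF hu hc' * tv hF hv hc,
    mul_mem (tv_mem_tvGroup hF hu hc' huS) (tv_mem_tvGroup hF hv hc hvS), ?_, fun x hxu hxv => ?_⟩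
  · rw [mul_smul, tv_smul, tv_smul, huv, mul_one, herm_add_left, herm_smul_left, hu,
      herm_one_swap hF huv, zero_add, mul_one, neg_mul, inv_mul_cancel₀ hc0, neg_one_smul]
    abel
  · rw [mul_smul, tv_smul hF hv, hxv, mul_zero, zero_smul, add_zero, tv_smul, hxu, mul_zero,
      zero_smul, add_zero]

/-- The torus element `u ↦ λ u`. -/
theorem exists_torus (huS : u ∈ supp S) (hvS : v ∈ supp S) (hu : herm q u u = 0)
    (hv : herm q v v = 0) (huv : herm q u v = 1) {l : F} (hl0 : l ≠ 0) (hl : l ^ q = l) :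
    ∃ t ∈ tvGroup hF S, t • u = l • u ∧
      ∀ x, herm q x u = 0 → herm q x v = 0 → t • x = x := by
  obtain ⟨θ, hθ0, hθ⟩ := exists_trace_zero_ne_zero hF
  obtain ⟨t1, ht1, h1u, h1x⟩ := exists_swap hF huS hvS hu hv huv hθ0 hθ
  have hd : l / θ + (l / θ) ^ q = 0 := by
    rw [div_pow, hl, eq_neg_of_add_eq_zero_right hθ, div_neg, add_neg_cancel]
  obtain ⟨t2, ht2, h2v, h2x⟩ :=
    exists_swap hF hvS huS hv hu (herm_one_swap hF huv) (div_ne_zero hl0 hθ0) hd
  refine ⟨t2 * t1, mul_mem ht2 ht1, ?_, fun x hxu hxv => by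
    rw [mul_smul, h1x x hxu hxv, h2x x hxv hxu]⟩
  rw [mul_smul, h1u, smul_comm t2, h2v, smul_smul, mul_div_cancel₀ l hθ0]

theorem exists_move_scale {z : Fin n → F} (huS : u ∈ supp S) (hzS : z ∈ supp S)
    (hu : herm q u u = 0) (hz : herm q z z = 0) (huz : herm q u z ≠ 0) {c : F}
    (hc0 : c ≠ 0) (hc : c + c ^ q = 0) :
    ∃ t ∈ tvGroup hF S, t • u = (c / herm q u z ^ q) • z := by
  set a := herm q u z
  have ha : a ^ q ≠ 0 := mt (pow_q_eq_zero_iff hF).1 huz
  obtain ⟨t, ht, htu, -⟩ := exists_swap hF (u := u) (v := (a ^ q)⁻¹ • z) huS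
    (Submodule.smul_mem _ _ hzS) hu
    (by rw [herm_smul_left, herm_smul_right hF, hz, mul_zero, mul_zero])
    (by rw [herm_smul_right hF, inv_pow, pow_q_pow_q hF, inv_mul_cancel₀ huz]) hc0 hc
  exact ⟨t, ht, by rw [htu, smul_smul, div_eq_mul_inv]⟩

/-- Transitivity on isotropic points. -/
theorem exists_move_point {u' : Fin n → F} (huS : u ∈ supp S) (huS' : u' ∈ supp S)
    (hu : herm q u u = 0) (hu' : herm q u' u' = 0) (h0 : u ≠ 0) (h0' : u' ≠ 0) :
    ∃ t ∈ tvGroup hF S, ∃ a : F, a ≠ 0 ∧ t • u = a • u' := by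
  obtain ⟨z, hzS, hz, huz, hzu'⟩ :
      ∃ z ∈ supp S, herm q z z = 0 ∧ herm q u z ≠ 0 ∧ herm q z u' ≠ 0 := by
    obtain ⟨a, haS, ha, hua⟩ := exists_partner hF huS hu h0
    obtain ⟨b, hbS, hb, hub'⟩ := exists_partner hF huS' hu' h0'
    by_cases h1 : herm q a u' = 0
    · by_cases h2 : herm q u b = 0
      · obtain ⟨d, hd⟩ := exists_trace_eq hF (t := -(herm q b a + herm q b a ^ q))
          (by rw [neg_pow_q hF, add_pow_q hF, pow_q_pow_q hF, add_comm])
        have h2' : herm q b u = 0 := (herm_eq_zero_comm hF).1 h2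
        by_cases h3 : herm q u u' = 0
        · refine ⟨a + b + d • u, add_mem (add_mem haS hbS) (Submodule.smul_mem _ _ huS), ?_, ?_, ?_⟩
          · simp only [herm_add_left, herm_add_right hF, herm_smul_left, herm_smul_right hF, hu, ha,
              hb, hua, herm_one_swap hF hua, h2, h2', herm_swap hF b a]
            linear_combination hd
          · simp [herm_add_right hF, herm_smul_right hF, hu, hua, h2]
          · simp [herm_add_left, herm_smul_left, h1, h3, herm_one_swap hF hub']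
        · obtain ⟨θ, hθ0, hθ⟩ := exists_trace_zero_ne_zero hF
          -- `u` and `u'` are already non-orthogonal
          exact ⟨a + θ • u, add_mem haS (Submodule.smul_mem _ _ huS),
            by simp only [herm_add_left, herm_add_right hF, herm_smul_left, herm_smul_right hF, hu,
                ha, hua, herm_one_swap hF hua]
               linear_combination hθ,
            by simp [herm_add_right hF, herm_smul_right hF, hu, hua],
            by simp [herm_add_left, herm_smul_left, h1, h3, hθ0]⟩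
      · exact ⟨b, hbS, hb, h2, by simp [herm_one_swap hF hub']⟩
    · exact ⟨a, haS, ha, by simp [hua], h1⟩
  obtain ⟨θ, hθ0, hθ⟩ := exists_trace_zero_ne_zero hF
  obtain ⟨t1, ht1, h1⟩ := exists_move_scale hF huS hzS hu hz huz hθ0 hθ
  obtain ⟨t2, ht2, h2⟩ := exists_move_scale hF hzS huS' hz hu' hzu' hθ0 hθ
  refine ⟨t2 * t1, mul_mem ht2 ht1, _, ?_, by rw [mul_smul, h1, smul_comm t2, h2, smul_smul]⟩
  exact mul_ne_zero (div_ne_zero hθ0 (mt (pow_q_eq_zero_iff hF).1 huz))
    (div_ne_zero hθ0 (mt (pow_q_eq_zero_iff hF).1 hzu'))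

theorem exists_move_to_partner (h3 : 3 ≤ Sᶜ.card) (huS : u ∈ supp S) (hvS : v ∈ supp S)
    (hu : herm q u u = 0) (hv : herm q v v = 0) (huv : herm q u v = 1) {β : F} (hβ : β ≠ 0) :
    ∃ t ∈ tvGroup hF S, t • u = β • v := by
  have hβ' : β ^ q ≠ 0 := mt (pow_q_eq_zero_iff hF).1 hβ
  set x := (β ^ q)⁻¹ with hx
  obtain ⟨w, hwS, hwu, hwv, hww⟩ := exists_orth_norm hF h3 huS hvS hu hv huv (t := -(x + x ^ q))
    (by rw [neg_pow_q hF, add_pow_q hF, pow_q_pow_q hF, add_comm])
  have huw : herm q u w = 0 := (herm_eq_zero_comm hF).1 hwu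
  have hvw : herm q v w = 0 := (herm_eq_zero_comm hF).1 hwv
  set z := x • u + v + w with hzdef
  have hzS : z ∈ supp S := add_mem (add_mem (Submodule.smul_mem _ _ huS) hvS) hwS
  have hz : herm q z z = 0 := by
    simp only [hzdef, herm_add_left, herm_add_right hF, herm_smul_left, herm_smul_right hF, hu, hv,
      huv, herm_one_swap hF huv, hwu, hwv, huw, hvw, hww]
    ring
  have huz : herm q u z = 1 := by
    simp [hzdef, herm_add_right hF, herm_smul_right hF, hu, huv, huw]
  have hzv : herm q z (β • v) = 1 := by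
    simp [hzdef, herm_add_left, herm_smul_left, herm_smul_right hF, hv, huv, hwv, hx]
    field_simp
  obtain ⟨θ, hθ0, hθ⟩ := exists_trace_zero_ne_zero hF
  have hθ' : θ⁻¹ + θ⁻¹ ^ q = 0 := by
    rw [inv_pow, eq_neg_of_add_eq_zero_right hθ, inv_neg, add_neg_cancel]
  obtain ⟨t1, ht1, h1⟩ := exists_move_scale hF huS hzS hu hz (by simp [huz]) hθ0 hθ
  obtain ⟨t2, ht2, h2⟩ := exists_move_scale hF hzS (Submodule.smul_mem _ β hvS) hz
    (by rw [herm_smul_left, herm_smul_right hF, hv, mul_zero, mul_zero]) (by simp [hzv])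
    (inv_ne_zero hθ0) hθ'
  refine ⟨t2 * t1, mul_mem ht2 ht1, ?_⟩
  rw [mul_smul, h1, smul_comm t2, h2, huz, hzv, smul_smul, one_pow, div_one, div_one,
    mul_inv_cancel₀ hθ0, one_smul]

/-- Transitivity on non-zero isotropic vectors in dimension at least three. -/
theorem exists_move (h3 : 3 ≤ Sᶜ.card) {u' : Fin n → F} (huS : u ∈ supp S) (huS' : u' ∈ supp S)
    (hu : herm q u u = 0) (hu' : herm q u' u' = 0) (h0 : u ≠ 0) (h0' : u' ≠ 0) :
    ∃ t ∈ tvGroup hF S, t • u = u' := by
  obtain ⟨t, ht, a, ha, htu⟩ := exists_move_point hF huS huS' hu hu' h0 h0'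
  obtain ⟨v, hvS, hv, huv⟩ := exists_partner hF huS' hu' h0'
  obtain ⟨t1, ht1, h1⟩ := exists_move_to_partner hF h3 huS' hvS hu' hv huv one_ne_zero
  obtain ⟨t2, ht2, h2⟩ :=
    exists_move_to_partner hF h3 hvS huS' hv hu' (herm_one_swap hF huv) (inv_ne_zero ha)
  refine ⟨t2 * t1 * t, mul_mem (mul_mem ht2 ht1) ht, ?_⟩
  rw [mul_smul, htu, smul_comm (t2 * t1), mul_smul, h1, one_smul, h2, smul_smul,
    mul_inv_cancel₀ ha, one_smul]

end Cfsg.Agent.Unitary
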